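import Cfsg.Agent.Lib.TwoFusion.DihedralProduct.Nested
import Cfsg.Agent.Lib.TwoGroups.Closed
import Cfsg.Agent.S1250
import Cfsg.Agent.Lib.ZStar.FusionCenter
import Cfsg.Agent.Lib.Transfer.Fusion
import Cfsg.Agent.Lib.Signalizer.OrderFormula

/-!
Owner: helper24. Tools for the rank one case of S3289: a strongly closed cyclic subgroup, or one with a
strongly closed cyclic subgroup of index two, is normal when the odd core is trivial.
-/

set_option autoImplicit false
set_option linter.style.haveILetI false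

namespace CfsgLib.TwoFusion.Foote

open Subgroup Cfsg

universe u

variable {G : Type u} [Group G]

/-- The image of a strongly closed subgroup in a quotient. -/
theorem closed_map [Finite G] {P : Sylow 2 G} {D : Subgroup G} (hD : IsStronglyClosed D (P : Subgroup G))
    (N : Subgroup G) [N.Normal] :
    IsStronglyClosed (D.map (QuotientGroup.mk' N))
      ((P.mapSurjective (QuotientGroup.mk'_surjective N) : Sylow 2 (G ⧸ N)) : Subgroup (G ⧸ N)) := by
  haveI : Fact (Nat.Prime 2) := ⟨Nat.prime_two⟩
  rw [Sylow.coe_mapSurjective]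
  exact Cfsg.Agent.S1250.result P D hD N

/-- A subgroup generating a finite `p`-group modulo its derived subgroup is the whole group. -/
theorem le_of_le_sup_commutator [Finite G] {p : ℕ} [Fact p.Prime] {P H : Subgroup G} (hP : IsPGroup p P)
    (hH : H ≤ P) (h : P ≤ H ⊔ ⁅P, P⁆) : P ≤ H := by
  have h1 : (H.subgroupOf P) ⊔ commutator P = ⊤ := by
    refine map_injective P.subtype_injective ?_
    rw [Subgroup.map_sup, map_subgroupOf_eq_of_le hH, P.map_subtype_commutator, ← MonoidHom.range_eq_map,
      P.range_subtype]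
    exact le_antisymm (sup_le hH (commutator_le.2 fun a ha b hb => mul_mem (mul_mem (mul_mem ha hb)
      (inv_mem ha)) (inv_mem hb))) h
  have h2 : H.subgroupOf P = ⊤ := frattini_nongenerating (top_le_iff.1 (h1.ge.trans
    (sup_le_sup_left (CfsgLib.PGroups.commutator_le_frattini' hP) _)))
  exact subgroupOf_eq_top.1 h2

/-- An element commuting with its discrepancy `e` has trivial discrepancy when its order is odd and that of
`e` a power of two. -/
theorem eq_one_of_conj_eq {n x e : G} (hn : Odd (orderOf n)) (hne : Commute n e)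
    (hconj : n * x * n⁻¹ = x * e) (he : ∃ j, e ^ 2 ^ j = 1) : e = 1 := by
  have hk : ∀ k : ℕ, n ^ k * x * (n ^ k)⁻¹ = x * e ^ k := by
    intro k
    induction k with
    | zero => simp
    | succ k ih =>
      rw [pow_succ', mul_inv_rev, show n * n ^ k * x * ((n ^ k)⁻¹ * n⁻¹) = n * (n ^ k * x * (n ^ k)⁻¹) * n⁻¹ by
        group, ih, show n * (x * e ^ k) * n⁻¹ = (n * x * n⁻¹) * (n * e ^ k * n⁻¹) by group, hconj,
        (hne.pow_right k).eq, mul_inv_cancel_right, mul_assoc, ← pow_succ']
  have h1 := hk (orderOf n)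
  rw [pow_orderOf_eq_one, one_mul, inv_one, mul_one, left_eq_mul] at h1
  obtain ⟨j, hj⟩ := he
  exact orderOf_eq_one_iff.1 (Nat.eq_one_of_dvd_coprimes ((Nat.coprime_two_right.2 hn).pow_right j)
    (orderOf_dvd_of_pow_eq_one h1) (orderOf_dvd_of_pow_eq_one hj))

/-- An element of odd order normalising a cyclic 2-group centralises it. -/
theorem commute_of_odd [Finite G] {n a : G} (hn : Odd (orderOf n)) (ha : ∃ j, a ^ 2 ^ j = 1)
    (hnorm : ∀ x ∈ zpowers a, n * x * n⁻¹ ∈ zpowers a) : ∀ x ∈ zpowers a, Commute n x := by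
  obtain ⟨j, hj⟩ := ha
  have key : ∀ i, ∀ x ∈ zpowers a, x ^ 2 ^ i = 1 → Commute n x := by
    intro i
    induction i with
    | zero => intro x _ hx; rw [pow_zero, pow_one] at hx; rw [hx]; exact Commute.one_right n
    | succ i ih =>
      intro x hx hxi
      have hxc : ∀ {u v : G}, u ∈ zpowers a → v ∈ zpowers a → Commute u v := by
        intro u v hu hv
        obtain ⟨k, rfl⟩ := mem_zpowers_iff.1 hu
        obtain ⟨l, rfl⟩ := mem_zpowers_iff.1 hv
        exact (Commute.refl a).zpow_zpow k l
      set e := x⁻¹ * (n * x * n⁻¹) with he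
      have hea : e ∈ zpowers a := mul_mem (inv_mem hx) (hnorm x hx)
      have hsq : Commute n (x * x) := ih _ (mul_mem hx hx) (by rw [← pow_two, ← pow_mul, ← pow_succ']; exact hxi)
      have he2 : e * e = 1 := by
        rw [he, (hxc (hnorm x hx) (inv_mem hx)).mul_mul_mul_comm (x⁻¹) (n * x * n⁻¹),
          show n * x * n⁻¹ * (n * x * n⁻¹) = n * (x * x) * n⁻¹ by group, hsq.eq, mul_inv_cancel_right]
        group
      have hne : Commute n e := by
        by_cases he1 : e = 1
        · rw [he1]; exact Commute.one_right n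
        · have h2 : orderOf e = 2 := orderOf_eq_prime (by rw [pow_two, he2]) he1
          refine mul_inv_eq_iff_eq_mul.1 (CfsgLib.Signalizer.unique_involution_in_zpowers (hnorm e hea) hea
            (((MulAut.conj n).orderOf_eq e).trans h2) h2)
      have := eq_one_of_conj_eq hn hne (show n * x * n⁻¹ = x * e by rw [he, mul_inv_cancel_left])
        ⟨1, by rw [pow_one, pow_two, he2]⟩
      refine mul_inv_eq_iff_eq_mul.1 ?_
      rw [show n * x * n⁻¹ = x * e by rw [he, mul_inv_cancel_left], this, mul_one]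
  intro x hx
  refine key j x hx ?_
  obtain ⟨k, rfl⟩ := mem_zpowers_iff.1 hx
  rw [← zpow_natCast, ← zpow_mul, mul_comm, zpow_mul, zpow_natCast, hj, one_zpow]

/-- A strongly closed 2-subgroup with a strongly closed cyclic subgroup of index at most two is normal when
the odd core is trivial. -/
theorem normal_of_closed : ∀ (m : ℕ) (G : Type u) [Group G] [Finite G], Nat.card G < m →
    oddCore G = ⊥ → ∀ (P : Sylow 2 G) (A D : Subgroup G), IsStronglyClosed A (P : Subgroup G) →
    IsStronglyClosed D (P : Subgroup G) → A ≤ D → IsCyclic A →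
    (∀ x ∈ D, ∀ y ∈ D, x ∉ A → y ∉ A → x * y ∈ A) → D.Normal := by
  intro m
  induction m with
  | zero => intro G _ _ h; exact absurd h (by omega)
  | succ m ih =>
  intro G _ _ hlt hO P A D hA hD hAD hcyc htwo
  haveI : Fact (Nat.Prime 2) := ⟨Nat.prime_two⟩
  have central : ∀ t : G, orderOf t = 2 → t ∈ (P : Subgroup G) →
      (∀ g : G, g * t * g⁻¹ ∈ (P : Subgroup G) → g * t * g⁻¹ = t) → t ∈ center G := by
    intro t ht htP hiso
    refine mem_center_iff.2 fun g => ?_
    have h := CfsgLib.ZStar.mem_oddCore_of_sylow P ht htP hiso g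
    rw [hO, Subgroup.mem_bot, mul_inv_eq_one, mul_inv_eq_iff_eq_mul] at h
    exact h.symm
  by_cases hA1 : A = ⊥
  · by_cases hD1 : D = ⊥
    · rw [hD1]; infer_instance
    obtain ⟨x, hx, hx1⟩ : ∃ x ∈ D, x ≠ 1 := by
      by_contra h
      push Not at h
      exact hD1 ((eq_bot_iff_forall D).2 h)
    have hxx : x * x = 1 := by simpa [hA1] using htwo x hx x hx (by simpa [hA1]) (by simpa [hA1])
    have huniq : ∀ y ∈ D, y = 1 ∨ y = x := by
      intro y hy
      by_cases hy1 : y = 1
      · exact Or.inl hy1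
      · refine Or.inr ?_
        have h : x * y = 1 := by simpa [hA1] using htwo x hx y hy (by simpa [hA1]) (by simpa [hA1])
        rw [← inv_eq_of_mul_eq_one_right h, inv_eq_of_mul_eq_one_right hxx]
    have hxc := central x (orderOf_eq_prime (by rw [pow_two, hxx]) hx1) (hD.1 hx) fun g hg =>
      (huniq _ (hD.2 x hx g hg)).resolve_left (by simpa using hx1)
    refine ⟨fun y hy g => ?_⟩
    rcases huniq y hy with rfl | rfl
    · simp
    · rwa [mem_center_iff.1 hxc g, mul_inv_cancel_right]
  obtain ⟨t, htA, ht⟩ : ∃ t ∈ A, orderOf t = 2 := by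
    haveI : Nontrivial A := A.nontrivial_iff_ne_bot.2 hA1
    obtain ⟨k, hk, hcard⟩ := (P.2.to_le hA.1).nontrivial_iff_card.1 inferInstance
    obtain ⟨t, ht⟩ := exists_prime_orderOf_dvd_card' (G := A) 2 (hcard ▸ dvd_pow_self 2 hk.ne')
    exact ⟨t, t.2, by rw [Subgroup.orderOf_coe, ht]⟩
  obtain ⟨a, rfl⟩ : ∃ a, zpowers a = A := (A.isCyclic_iff_exists_zpowers_eq_top).1 hcyc
  have htc : t ∈ center G := central t ht (hA.1 htA) fun g hg =>
    CfsgLib.Signalizer.unique_involution_in_zpowers (hA.2 t htA g hg) htA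
      (((MulAut.conj g).orderOf_eq t).trans ht) ht
  set Z := zpowers t
  have hZc : Z ≤ center G := zpowers_le.2 htc
  haveI : Z.Normal := ⟨fun k hk g => by
    rwa [mem_center_iff.1 (hZc hk) g, mul_inv_cancel_right]⟩
  have hZD : Z ≤ D := zpowers_le.2 (hAD htA)
  have hsur := QuotientGroup.mk'_surjective Z
  have hcard : Nat.card (G ⧸ Z) < m := by
    have h2 : 2 * Nat.card (G ⧸ Z) = Nat.card G := by
      rw [card_eq_card_quotient_mul_card_subgroup Z, Nat.card_zpowers, ht, mul_comm]
    have := Nat.card_pos (α := G ⧸ Z)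
    omega
  haveI : IsCyclic ((zpowers a).map (QuotientGroup.mk' Z)) := by
    rw [MonoidHom.map_zpowers]; infer_instance
  have hn := ih (G ⧸ Z) hcard
    (CfsgLib.TwoFusion.DihedralProduct.oddCore_quotient_central Z hZc
      (IsPGroup.of_card (n := 1) (by rw [Nat.card_zpowers, ht, pow_one])) hO)
    (P.mapSurjective hsur) _ _ (closed_map hA Z)
    (closed_map hD Z) (map_mono hAD) inferInstance
    (by
      rintro _ ⟨x, hx, rfl⟩ _ ⟨y, hy, rfl⟩ hxA hyA
      rw [← map_mul]
      exact mem_map_of_mem _ (htwo x hx y hy (fun h => hxA (mem_map_of_mem _ h))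
        fun h => hyA (mem_map_of_mem _ h)))
  have := hn.comap (QuotientGroup.mk' Z)
  rwa [comap_map_eq_self (by rwa [QuotientGroup.ker_mk'])] at this

end CfsgLib.TwoFusion.Foote
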