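import Cfsg.Agent.Lib.TwoFusion.Foote.RankOne.Basic
import Cfsg.Agent.Lib.TwoFusion.ProductFusion.Setup
import Cfsg.Agent.Lib.LocalEvenB.AlperinStrong

/-!
Owner: helper24. From the Alperin steps to the conclusion: a strongly closed subgroup `D` generating `G` is the
Sylow subgroup if a disjoint subgroup `U` of its centraliser is preserved and `D [P,P] U` absorbs fusion.
-/

set_option autoImplicit false
set_option linter.style.haveILetI false

namespace CfsgLib.TwoFusion.Foote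

open Subgroup Cfsg

universe u

variable {G : Type u} [Group G] [Finite G]

/-- The conjugation of `x` by `g` moves it inside its coset of `D [P,P] U` and preserves `U`. -/
def Good (P : Sylow 2 G) (D U : Subgroup G) (g x : G) : Prop :=
  g * x * g⁻¹ * x⁻¹ ∈ D ⊔ ⁅(P : Subgroup G), (P : Subgroup G)⁆ ⊔ U ∧ (x ∈ U → g * x * g⁻¹ ∈ U)

omit [Finite G] in
theorem Good.trans {P : Sylow 2 G} {D U : Subgroup G} {g h x : G} (hg : Good P D U g x)
    (hh : Good P D U h (g * x * g⁻¹)) : Good P D U (h * g) x := by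
  have e : h * g * x * (h * g)⁻¹ = h * (g * x * g⁻¹) * h⁻¹ := by group
  refine ⟨?_, fun hx => e ▸ hh.2 (hg.2 hx)⟩
  rw [e, show h * (g * x * g⁻¹) * h⁻¹ * x⁻¹ =
    (h * (g * x * g⁻¹) * h⁻¹ * (g * x * g⁻¹)⁻¹) * (g * x * g⁻¹ * x⁻¹) by group]
  exact mul_mem hh.1 hg.1

/-- Alperin: it is enough to treat normalisers of subgroups holding the centre of `P`. -/
theorem good_of_steps (P : Sylow 2 G) (D U : Subgroup G)
    (hstep : ∀ (E : Subgroup G) (g : G), E ≤ (P : Subgroup G) →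
      (∀ z ∈ (P : Subgroup G), (∀ s ∈ (P : Subgroup G), Commute s z) → z ∈ E) →
      g ∈ normalizer (E : Set G) → ∀ x ∈ E, Good P D U g x)
    {g x : G} (hx : x ∈ (P : Subgroup G)) (hgx : g * x * g⁻¹ ∈ (P : Subgroup G)) : Good P D U g x := by
  haveI : Fact (Nat.Prime 2) := ⟨Nat.prime_two⟩
  obtain ⟨c, g', y, hc, hy, hpath, hg⟩ := CfsgLib.LocalEvenB.exists_strong_alperin_path P
    (A := {x}) (g := g⁻¹) (Set.singleton_subset_iff.2 hx) (by
      rintro _ ⟨v, rfl, rfl⟩
      show (g⁻¹)⁻¹ * v * g⁻¹ ∈ (P : Subgroup G)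
      rwa [inv_inv])
  have hP : ∀ {z : G}, z ∈ normalizer ((P : Subgroup G) : Set G) → ∀ w ∈ (P : Subgroup G), Good P D U z w :=
    fun hz w hw => hstep (P : Subgroup G) _ le_rfl (fun z hz' _ => hz') hz w hw
  have main : ∀ (A : Set G) (k : G),
      CfsgLib.Techniques.RelPath (CfsgLib.LocalEvenB.AlperinStep 2 (P : Subgroup G)) A k →
      A ⊆ ((P : Subgroup G) : Set G) →
      ∀ w ∈ A, k⁻¹ * w * k ∈ (P : Subgroup G) ∧ Good P D U k⁻¹ w := by
    intro A k hk
    induction hk with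
    | one A => intro hA w hw; exact ⟨by rw [inv_one, one_mul, mul_one]; exact hA hw, by
        refine ⟨?_, fun h => by simpa using h⟩
        simp⟩
    | step A T x g hR hA _ ih =>
      intro _ w hw
      obtain ⟨hTP, -, hcen, -, -, X, ⟨-, hXN, -, -, -⟩, hxX⟩ := hR
      have hxN : x ∈ normalizer (T : Set G) := hXN (map_subtype_le _ hxX)
      have hmemT : ∀ v ∈ T, x⁻¹ * v * x ∈ T := fun v hv => by
        simpa using (mem_normalizer_iff.1 (inv_mem hxN) v).1 hv
      have h1 : Good P D U x⁻¹ w := hstep T x⁻¹ hTP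
        (fun z hz hzc => hcen ⟨hz, mem_centralizer_iff.2 fun v hv => (hzc v (hTP hv)).eq⟩)
        (inv_mem hxN) w (hA hw)
      obtain ⟨h2, h3⟩ := ih (by rintro _ ⟨v, hv, rfl⟩; exact hTP (hmemT v (hA hv))) (x⁻¹ * w * x) ⟨w, hw, rfl⟩
      refine ⟨by rwa [show (x * g)⁻¹ * w * (x * g) = g⁻¹ * (x⁻¹ * w * x) * g by group], ?_⟩
      rw [mul_inv_rev]
      exact h1.trans (by rwa [inv_inv])
  obtain ⟨h1, h2⟩ := main {x} g' hpath (Set.singleton_subset_iff.2 hx) x rfl
  have hcx : c⁻¹ * x * c = x := by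
    rw [mul_assoc, mem_centralizer_iff.1 hc x rfl, inv_mul_cancel_left]
  have hc' : Good P D U c⁻¹ x := by
    refine ⟨?_, fun h => ?_⟩ <;> rw [inv_inv, hcx]
    · rw [mul_inv_cancel]; exact one_mem _
    · exact h
  have e : g = y⁻¹ * (g'⁻¹ * c⁻¹) := by rw [← inv_inj, hg]; group
  rw [e]
  refine (hc'.trans ?_).trans ?_
  · rw [inv_inv, hcx]; exact h2
  · refine hP (inv_mem hy) _ ?_
    rw [show g'⁻¹ * c⁻¹ * x * (g'⁻¹ * c⁻¹)⁻¹ = g'⁻¹ * (c⁻¹ * x * c) * g' by group, hcx]
    exact h1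

/-- The conclusion. -/
theorem eq_sylow_of_steps (P : Sylow 2 G) (D U : Subgroup G) (hO : oddCore G = ⊥)
    (hgen : normalClosure (D : Set G) = ⊤) (hD : IsStronglyClosed D (P : Subgroup G))
    (hUP : U ≤ (P : Subgroup G)) (hcomm : ∀ a ∈ D, ∀ b ∈ U, a * b = b * a) (hdisj : D ⊓ U = ⊥)
    (hstep : ∀ (E : Subgroup G) (g : G), E ≤ (P : Subgroup G) →
      (∀ z ∈ (P : Subgroup G), (∀ s ∈ (P : Subgroup G), Commute s z) → z ∈ E) →
      g ∈ normalizer (E : Set G) → ∀ x ∈ E, Good P D U g x) : D = (P : Subgroup G) := by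
  haveI : Fact (Nat.Prime 2) := ⟨Nat.prime_two⟩
  have hgood : ∀ x ∈ (P : Subgroup G), ∀ g, g * x * g⁻¹ ∈ (P : Subgroup G) → Good P D U g x :=
    fun x hx g hg => good_of_steps P D U hstep hx hg
  have hUc : IsStronglyClosed U (P : Subgroup G) := ⟨hUP, fun x hx g hg => (hgood x (hUP hx) g hg).2 hx⟩
  have hUcen : ∀ u ∈ U, u ∈ center G := by
    intro u hu
    have hle : normalClosure (D : Set G) ≤ centralizer ({u} : Set G) := by
      refine (closure_le _).2 fun v hv => ?_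
      obtain ⟨d, hd, hdv⟩ := Group.mem_conjugatesOfSet_iff.1 hv
      obtain ⟨g, rfl⟩ := isConj_iff.1 hdv
      have h := CfsgLib.TwoFusion.ProductFusion.commutator_mem_oddCore hD hUc hcomm hdisj hd hu g
      rw [hO, mem_bot] at h
      exact mem_centralizer_singleton_iff.2 (commutatorElement_eq_one_iff_commute.1 h).eq
    rw [hgen] at hle
    exact mem_center_iff.2 fun g => mem_centralizer_singleton_iff.1 (hle (mem_top g))
  -- `P = D (G' ∩ P)`
  have hsup : ∀ C : Subgroup G, _root_.commutator G ⊓ (P : Subgroup G) ≤ C → (P : Subgroup G) ≤ D ⊔ C := by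
    intro C hC s hs
    haveI : (D ⊔ _root_.commutator G).Normal := Subgroup.Normal.of_commutator_le G le_sup_right
    have htop : D ⊔ _root_.commutator G = ⊤ :=
      top_le_iff.1 (hgen ▸ normalClosure_le_normal (fun v hv => mem_sup_left hv))
    obtain ⟨d, hd, k, hk, rfl⟩ := mem_sup_of_normal_right.1 (htop ▸ mem_top s : s ∈ D ⊔ _root_.commutator G)
    refine mul_mem (mem_sup_left hd) (mem_sup_right (hC ⟨hk, ?_⟩))
    have := mul_mem (inv_mem (hD.1 hd)) hs
    rwa [inv_mul_cancel_left] at this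
  have hfus : ∀ (C : Subgroup G), (∀ x ∈ (P : Subgroup G), ∀ g, g * x * g⁻¹ ∈ (P : Subgroup G) →
      g * x * g⁻¹ * x⁻¹ ∈ C) → (P : Subgroup G) ≤ D ⊔ C := fun C hC => hsup C
    (CfsgLib.Transfer.commutator_inf_le_of_fusion P C fun x hx g hg => by
      have h := hC x⁻¹ (inv_mem hx) g⁻¹ (by simpa [mul_assoc] using inv_mem hg)
      have h' := inv_mem h
      simpa [mul_assoc] using h')
  have hDU : (P : Subgroup G) ≤ D ⊔ U := by
    refine le_of_le_sup_commutator P.2 (sup_le hD.1 hUP) ?_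
    refine (hfus _ fun x hx g hg => (hgood x hx g hg).1).trans ?_
    refine sup_le (le_sup_left.trans le_sup_left) ?_
    exact sup_le (sup_le (le_sup_left.trans le_sup_left) le_sup_right) (le_sup_right.trans le_sup_left)
  refine le_antisymm hD.1 ((hfus D fun x hx g hg => ?_).trans (by rw [sup_idem]))
  have hn : U ≤ normalizer (D : Set G) := fun u hu => mem_normalizer_fintype fun v hv => by
    rw [(mem_center_iff.1 (hUcen u hu) v).symm, mul_inv_cancel_right]; exact hv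
  have hx' := hDU hx
  rw [← SetLike.mem_coe, coe_mul_of_right_le_normalizer_left D U hn, Set.mem_mul] at hx'
  obtain ⟨d, hd, u, hu, rfl⟩ := hx'
  have e : g * (d * u) * g⁻¹ = g * d * g⁻¹ * u := by
    rw [show g * (d * u) * g⁻¹ = g * d * (u * g⁻¹) by group, ← mem_center_iff.1 (hUcen u hu) g⁻¹]
    group
  have hdP : g * d * g⁻¹ ∈ (P : Subgroup G) := by
    have h := mul_mem hg (inv_mem (hUP hu))
    rwa [e, mul_inv_cancel_right] at h
  rw [e, show g * d * g⁻¹ * u * (d * u)⁻¹ = g * d * g⁻¹ * d⁻¹ by group]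
  exact mul_mem (hD.2 d hd g hdP) (inv_mem hd)

end CfsgLib.TwoFusion.Foote
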