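import Cfsg.Agent.Lib.TwoFusion.Foote.RankOne.Local
import Cfsg.Agent.Lib.TwoFusion.Foote.RankOne.Finish
import Cfsg.Agent.Lib.TwoFusion.Foote.Control

/-!
Owner: helper24. A strongly closed dihedral subgroup of order at least eight whose central involution is not
isolated, generating a group with trivial odd core, is the Sylow 2-subgroup.
-/

set_option autoImplicit false
set_option linter.style.haveILetI false

namespace CfsgLib.TwoFusion.Foote

open Subgroup Cfsg
open CfsgLib.TwoFusion.DihedralProduct (Rot)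
open CfsgLib.Signalizer (involution_sq involution_inv involution_ne_one)

universe u

variable {G : Type u} [Group G]

/-- The subgroup generated by the elements of odd order. -/
def oddGen (H : Subgroup G) : Subgroup G := closure {x | x ∈ H ∧ Odd (orderOf x)}

theorem oddGen_le (H : Subgroup G) : oddGen H ≤ H := (closure_le H).2 fun _ hx => hx.1

theorem mem_oddGen {H : Subgroup G} {x : G} (hx : x ∈ H) (ho : Odd (orderOf x)) : x ∈ oddGen H :=
  subset_closure ⟨hx, ho⟩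

theorem oddGen_conj {H K : Subgroup G} {g : G} (hg : ∀ x ∈ H, g * x * g⁻¹ ∈ K) {x : G}
    (hx : x ∈ oddGen H) : g * x * g⁻¹ ∈ oddGen K := by
  have hle : oddGen H ≤ (oddGen K).comap (MulAut.conj g).toMonoidHom := (closure_le _).2 fun y hy =>
    mem_oddGen (hg y hy.1) (by rw [MulEquiv.coe_toMonoidHom, MulEquiv.orderOf_eq]; exact hy.2)
  exact hle hx

variable [Finite G] {P : Sylow 2 G} {D : Subgroup G} {n : ℕ} {r : G}

/-- The data of this file. -/
structure DSet (P : Sylow 2 G) (D : Subgroup G) (n : ℕ) (r : G) : Prop where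
  rot : Rot D n r
  two_le : 2 ≤ n
  closed : IsStronglyClosed D (P : Subgroup G)

namespace DSet

local notation "half" => r ^ 2 ^ (n - 1)

variable (s : DSet P D n r)

include s

omit [Finite G] in
theorem mem_zpowers_of_order {x : G} (hx : x ∈ D) (h4 : x * x ≠ 1) : x ∈ zpowers r := by
  by_contra h
  exact h4 (s.rot.sq x hx h)

omit [Finite G] in
theorem sq_ne : r * r ≠ 1 := fun h => by
  have h1 : 2 ^ n ∣ 2 := s.rot.order ▸ orderOf_dvd_of_pow_eq_one (by rw [pow_two, h])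
  have h2 := Nat.le_of_dvd two_pos h1
  have : 2 ^ 2 ≤ 2 ^ n := Nat.pow_le_pow_right two_pos s.two_le
  omega

theorem half_comm {t : G} (ht : t ∈ (P : Subgroup G)) : Commute t half := by
  have hrd := s.closed.2 r s.rot.mem t (mul_mem (mul_mem ht (s.closed.1 s.rot.mem)) (inv_mem ht))
  have hr' : t * r * t⁻¹ ∈ zpowers r := s.mem_zpowers_of_order hrd fun h => s.sq_ne (by
    rwa [show t * r * t⁻¹ * (t * r * t⁻¹) = t * (r * r) * t⁻¹ by group, conj_eq_one_iff] at h)
  have h1 : t * half * t⁻¹ ∈ zpowers r := by rw [← conj_pow]; exact pow_mem hr' _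
  exact mul_inv_eq_iff_eq_mul.1 (CfsgLib.Signalizer.unique_involution_in_zpowers h1 s.rot.half_mem_zpowers
    (((MulAut.conj t).orderOf_eq _).trans s.rot.half_order) s.rot.half_order)

/-- The position inside the centraliser of the central involution. -/
theorem pos : Pos P (centralizer ({half} : Set G)) D r := by
  refine ⟨fun t ht => mem_centralizer_singleton_iff.2 (s.half_comm ht).eq, s.closed, s.rot.mem,
    fun x hx y hy hxr hyr => s.rot.two x hx hxr y hy hyr, fun x hx g hg hgx => ?_⟩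
  by_contra hout
  have hD := s.closed.2 x (zpowers_le.2 s.rot.mem hx) g hgx
  have h1 : x * x = 1 := by
    have h := s.rot.sq _ hD hout
    rwa [show g * x * g⁻¹ * (g * x * g⁻¹) = g * (x * x) * g⁻¹ by group, conj_eq_one_iff] at h
  rcases s.rot.eq_half_of_mem hx h1 with rfl | rfl
  · exact hout (by simp)
  · rw [mem_centralizer_singleton_iff.1 hg, mul_inv_cancel_right] at hout
    exact hout s.rot.half_mem_zpowers

omit [Finite G] in
theorem cent_le : centralizer (D : Set G) ≤ centralizer ({half} : Set G) := fun y hy =>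
  mem_centralizer_singleton_iff.2 (mem_centralizer_iff.1 hy _ s.rot.half_mem).symm

theorem cen : Pos.Cen P (centralizer ({half} : Set G)) D r (oddGen (centralizer (D : Set G))) where
  toPos := s.pos
  yle := (oddGen_le _).trans s.cent_le
  ycomm _ hy d hd := (mem_centralizer_iff.1 (oddGen_le _ hy) d hd).symm
  yconj k _ hkD y hy := oddGen_conj (fun v hv => mem_centralizer_iff.2 fun d hd => by
    have hd' : k⁻¹ * d * k ∈ D := by simpa using (mem_normalizer_iff.1 (inv_mem hkD) d).1 hd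
    calc d * (k * v * k⁻¹) = k * ((k⁻¹ * d * k) * v) * k⁻¹ := by group
      _ = k * (v * (k⁻¹ * d * k)) * k⁻¹ := by rw [mem_centralizer_iff.1 hv _ hd']
      _ = k * v * k⁻¹ * d := by group) hy
  yodd k hkM hkD ho := mem_oddGen (mem_centralizer_iff.2 fun _ hd => (s.pos.odd_commute hkM hkD ho hd).eq.symm) ho

local notation "MC" => centralizer ({half} : Set G)
local notation "WC" => coreIn (centralizer ({half} : Set G)) ⊔ oddGen (centralizer (D : Set G))

/-- Elements of `P ∩ W` centralising a four group lie in the odd-generated part of its centraliser. -/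
theorem mem_oddGen_cen {V : Set G} (hV : V ⊆ D) {x : G} (hx : x ∈ WC)
    (hxV : x ∈ centralizer V) : x ∈ oddGen (centralizer V) := by
  obtain ⟨o, ho, y, hy, rfl⟩ := s.cen.exists_mul hx
  have hle : centralizer (D : Set G) ≤ centralizer V := centralizer_le hV
  have hy' : y ∈ oddGen (centralizer V) := by
    have := oddGen_conj (g := 1) (H := centralizer (D : Set G)) (K := centralizer V)
      (fun v hv => by simpa using hle hv) hy
    simpa using this
  refine mul_mem (mem_oddGen ?_ (coreIn_odd ho)) hy'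
  exact (Subgroup.mul_mem_cancel_right _ (oddGen_le _ hy')).1 hxV

/-- The central involution is not in `W` when it has another conjugate in `P`. -/
theorem half_not_mem {g : G} (hg : g * half * g⁻¹ ∈ (P : Subgroup G)) (hne : g * half * g⁻¹ ≠ half) :
    half ∉ WC := by
  haveI : Fact (Nat.Prime 2) := ⟨Nat.prime_two⟩
  intro hW
  set c := half with hc
  set c' := g * c * g⁻¹ with hc'
  have hc'D : c' ∈ D := s.closed.2 c s.rot.half_mem g hg
  have hcc : Commute c' c := s.rot.half_central hc'D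
  set e := g⁻¹ * c * g with he
  have hec : Commute e c := by
    have h1 := hcc.map (MulAut.conj g⁻¹).toMonoidHom
    simp only [MulEquiv.coe_toMonoidHom, MulAut.conj_apply, inv_inv] at h1
    rw [show g⁻¹ * c' * g = c by rw [hc']; group] at h1
    exact h1.symm
  have he2 : orderOf e = 2 := by
    rw [he, show g⁻¹ * c * g = MulAut.conj g⁻¹ c by simp, MulEquiv.orderOf_eq]
    exact s.rot.half_order
  have hene : e ≠ c := fun h => hne (by
    calc g * c * g⁻¹ = g * (g⁻¹ * c * g) * g⁻¹ := by rw [← he, h]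
      _ = c := by group)
  obtain ⟨m, hm, hconj⟩ := exists_conj_le P s.pos.le
    (zpowers_le.2 (mem_centralizer_singleton_iff.2 hec.eq : e ∈ MC))
    (IsPGroup.of_card (n := 1) (by rw [Nat.card_zpowers, he2, pow_one]))
  have hk := hconj e (mem_zpowers e)
  set k := m * g⁻¹ with hkdef
  have hke : k * c * k⁻¹ = m * e * m⁻¹ := by rw [hkdef, he]; group
  have hkD : k * c * k⁻¹ ∈ D := s.closed.2 c s.rot.half_mem k (hke ▸ hk)
  have hkne : k * c * k⁻¹ ≠ c := fun h => hene (by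
    rw [hke] at h
    calc e = m⁻¹ * (m * e * m⁻¹) * m := by group
      _ = m⁻¹ * c * m := by rw [h]
      _ = c := by rw [mul_assoc, ← mem_centralizer_singleton_iff.1 hm, inv_mul_cancel_left])
  have hkc : k * c' * k⁻¹ = c := by
    rw [hkdef, hc', show m * g⁻¹ * (g * c * g⁻¹) * (m * g⁻¹)⁻¹ = m * c * m⁻¹ by group,
      mem_centralizer_singleton_iff.1 hm, mul_inv_cancel_right]
  have h1 : c ∈ oddGen (centralizer ({c, c'} : Set G)) :=
    s.mem_oddGen_cen (Set.insert_subset s.rot.half_mem (Set.singleton_subset_iff.2 hc'D)) hW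
      (mem_centralizer_iff.2 (by
        rintro v (rfl | rfl)
        · rfl
        · exact hcc.eq))
  have h2 : k * c * k⁻¹ ∈ oddGen MC := oddGen_conj (fun v hv => mem_centralizer_singleton_iff.2 (by
    show k * v * k⁻¹ * c = c * (k * v * k⁻¹)
    rw [← hkc]
    calc k * v * k⁻¹ * (k * c' * k⁻¹) = k * (v * c') * k⁻¹ := by group
      _ = k * (c' * v) * k⁻¹ := by rw [mem_centralizer_iff.1 hv c' (Or.inr rfl)]
      _ = k * c' * k⁻¹ * (k * v * k⁻¹) := by group)) h1
  have h3 : k * c * k⁻¹ ∈ WC :=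
    ((closure_le _).2 fun v hv => s.cen.odd_mem hv.1 hv.2 : oddGen MC ≤ WC) h2
  have h4 := s.cen.commute_of_mem (s.closed.1 hkD) h3 s.rot.mem
  have hx2 : k * c * k⁻¹ * (k * c * k⁻¹) = 1 := by
    rw [show k * c * k⁻¹ * (k * c * k⁻¹) = k * (c * c) * k⁻¹ by group, involution_sq s.rot.half_order]; group
  by_cases hin : k * c * k⁻¹ ∈ zpowers r
  · rcases s.rot.eq_half_of_mem hin hx2 with h | h
    · exact involution_ne_one s.rot.half_order (conj_eq_one_iff.1 h)
    · exact hkne h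
  · have h5 := s.rot.inv _ hkD hin
    rw [h4.eq, mul_inv_cancel_right, eq_inv_iff_mul_eq_one] at h5
    exact s.sq_ne h5

/-- The steps moving the central involution. -/
theorem step_move {E : Subgroup G} {g : G} (hEP : E ≤ (P : Subgroup G)) (hcE : half ∈ E)
    (hgN : g ∈ normalizer (E : Set G)) (hne : g * half * g⁻¹ ≠ half) {x : G} (hxE : x ∈ E) :
    Good P D ((P : Subgroup G) ⊓ WC) g x := by
  haveI : Fact (Nat.Prime 2) := ⟨Nat.prime_two⟩
  set c := half with hc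
  set c₁ := g * c * g⁻¹ with hc₁
  have hgE : ∀ v ∈ E, g * v * g⁻¹ ∈ E := fun v hv => (mem_normalizer_iff.1 hgN v).1 hv
  have hc₁D : c₁ ∈ D := s.closed.2 c s.rot.half_mem g (hEP (hgE c hcE))
  have hcE' : ∀ v ∈ E, Commute v c := fun v hv => s.half_comm (hEP hv)
  have hc₁E : ∀ v ∈ E, Commute v c₁ := by
    intro v hv
    have h1 : g⁻¹ * v * g ∈ E := by simpa using (mem_normalizer_iff.1 (inv_mem hgN) v).1 hv
    have h2 := (hcE' _ h1).map (MulAut.conj g).toMonoidHom
    simp only [MulEquiv.coe_toMonoidHom, MulAut.conj_apply] at h2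
    rwa [show g * (g⁻¹ * v * g) * g⁻¹ = v by group] at h2
  have hc₁o : orderOf c₁ = 2 := ((MulAut.conj g).orderOf_eq c).trans s.rot.half_order
  have hc₁r : c₁ ∉ zpowers r := fun h => hne (CfsgLib.Signalizer.unique_involution_in_zpowers h
    s.rot.half_mem_zpowers hc₁o s.rot.half_order)
  have hcc : c * c = 1 := involution_sq s.rot.half_order
  have h11 : c₁ * c₁ = 1 := involution_sq hc₁o
  have hcomm : Commute c₁ c := s.rot.half_central hc₁D
  set V : Set G := {c, c₁} with hV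
  set CV := centralizer V with hCV
  set N := normalizer (closure V : Set G) with hN
  have hVD : V ⊆ (D : Set G) := Set.insert_subset s.rot.half_mem (Set.singleton_subset_iff.2 hc₁D)
  have hcloV : closure V ≤ D := (closure_le _).2 hVD
  have hVCV : closure V ≤ CV := by
    refine (closure_le _).2 fun v hv => mem_centralizer_iff.2 ?_
    rintro w (rfl | rfl) <;> rcases hv with rfl | rfl
    exacts [rfl, hcomm.eq.symm, hcomm.eq, rfl]
  have hxCV : ∀ v ∈ E, v ∈ CV := fun v hv => mem_centralizer_iff.2 (by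
    rintro w (rfl | rfl)
    exacts [(hcE' v hv).eq.symm, (hc₁E v hv).eq.symm])
  have hCVM : CV ≤ MC := fun v hv =>
    mem_centralizer_singleton_iff.2 (mem_centralizer_iff.1 hv c (Or.inl rfl)).symm
  -- normalisers
  have hmemN : ∀ k, (k * c * k⁻¹ ∈ closure V) → (k * c₁ * k⁻¹ ∈ closure V) → k ∈ N := by
    intro k h1 h2
    have hle : closure V ≤ (closure V).comap (MulAut.conj k).toMonoidHom := (closure_le _).2 (by
      rintro v (rfl | rfl)
      exacts [h1, h2])
    exact mem_normalizer_fintype fun v hv => hle hv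
  have hNCV : ∀ k ∈ N, ∀ v ∈ CV, k * v * k⁻¹ ∈ CV := by
    intro k hk v hv
    refine mem_centralizer_iff.2 fun w hw => ?_
    have h1 : k⁻¹ * w * k ∈ closure V := by
      simpa using (mem_normalizer_iff.1 (inv_mem hk) w).1 (subset_closure hw)
    have hle : closure V ≤ centralizer ({v} : Set G) := (closure_le _).2 fun z hz =>
      mem_centralizer_singleton_iff.2 (mem_centralizer_iff.1 hv z hz)
    have h2 : k⁻¹ * w * k * v = v * (k⁻¹ * w * k) := mem_centralizer_singleton_iff.1 (hle h1)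
    calc w * (k * v * k⁻¹) = k * (k⁻¹ * w * k * v) * k⁻¹ := by group
      _ = k * (v * (k⁻¹ * w * k)) * k⁻¹ := by rw [h2]
      _ = k * v * k⁻¹ * w := by group
  set W' := closure V ⊔ oddGen CV with hW'
  have hNW' : ∀ k ∈ N, ∀ v ∈ W', k * v * k⁻¹ ∈ W' := by
    intro k hk
    have hle : W' ≤ W'.comap (MulAut.conj k).toMonoidHom := sup_le
      (fun v hv => mem_sup_left ((mem_normalizer_iff.1 hk v).1 hv))
      (fun v hv => mem_sup_right (oddGen_conj (hNCV k hk) hv))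
    exact fun v hv => hle hv
  -- the element `d` of order four of the rotations
  set d := r ^ 2 ^ (n - 2) with hd
  have hd2 : d * d = c := by
    rw [hd, hc, ← pow_add, ← two_mul, ← pow_succ']
    congr 2
    have := s.two_le
    omega
  have hdr : d ∈ zpowers r := npow_mem_zpowers r _
  have hdc : d * c * d⁻¹ = c := by rw [← hd2]; group
  have hdc₁ : d * c₁ * d⁻¹ = c₁ * c := by
    have h1 := s.rot.conj_zpowers hc₁D hc₁r hdr
    rw [involution_inv hc₁o] at h1
    have h2 : d * c₁ = c₁ * d⁻¹ := by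
      calc d * c₁ = (c₁ * c₁) * d * c₁ := by rw [h11, one_mul]
        _ = c₁ * (c₁ * d * c₁) := by simp only [mul_assoc]
        _ = c₁ * d⁻¹ := by rw [h1]
    calc d * c₁ * d⁻¹ = c₁ * (d⁻¹ * d⁻¹) := by rw [h2, mul_assoc]
      _ = c₁ * c := by rw [← mul_inv_rev, hd2, involution_inv s.rot.half_order]
  have hdN : d ∈ N := hmemN d (by rw [hdc]; exact subset_closure (Or.inl rfl))
    (by rw [hdc₁]; exact mul_mem (subset_closure (Or.inr rfl)) (subset_closure (Or.inl rfl)))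
  have hdc₂ : d * (c * c₁) * d⁻¹ = c₁ := by
    rw [← hcomm.eq, show d * (c₁ * c) * d⁻¹ = (d * c₁ * d⁻¹) * (d * c * d⁻¹) by group, hdc₁, hdc, mul_assoc,
      hcc, mul_one]
  -- the image `f` of `c₁`
  set f := g * c₁ * g⁻¹ with hf
  have hc₁mem : c₁ ∈ E := hgE c hcE
  have hfD : f ∈ D := s.closed.2 c₁ hc₁D g (hEP (hgE c₁ hc₁mem))
  have hfeq : f = c ∨ f = c * c₁ := by
    rcases s.rot.eq_of_commute hc₁D hc₁o hne hfD (hc₁E f (hgE c₁ hc₁mem)) with h | h | h | h
    · exact absurd (conj_eq_one_iff.1 h) (involution_ne_one hc₁o)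
    · exact Or.inl h
    · exact absurd ((MulAut.conj g).injective h : c₁ = c) hne
    · exact Or.inr h
  have hgNV : g ∈ N := by
    refine hmemN g (subset_closure (Or.inr rfl)) ?_
    rcases hfeq with h | h
    · rw [← hf, h]; exact subset_closure (Or.inl rfl)
    · rw [← hf, h]; exact mul_mem (subset_closure (Or.inl rfl)) (subset_closure (Or.inr rfl))
  set d' := g * d * g⁻¹ with hd'
  have hd'N : d' ∈ N := mul_mem (mul_mem hgNV hdN) (inv_mem hgNV)
  have hd'c : d' * c * d'⁻¹ = c * c₁ := by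
    have h1 : d' * c₁ * d'⁻¹ = c₁ := by
      rw [hd', hc₁, show g * d * g⁻¹ * (g * c * g⁻¹) * (g * d * g⁻¹)⁻¹ = g * (d * c * d⁻¹) * g⁻¹ by group, hdc]
    have h2 : d' * f * d'⁻¹ = f * c₁ := by
      rw [hd', hf, show g * d * g⁻¹ * (g * c₁ * g⁻¹) * (g * d * g⁻¹)⁻¹ = g * (d * c₁ * d⁻¹) * g⁻¹ by group, hdc₁,
        hc₁]
      group
    rcases hfeq with h | h <;> rw [h] at h2
    · exact h2
    · rw [show d' * (c * c₁) * d'⁻¹ = (d' * c * d'⁻¹) * (d' * c₁ * d'⁻¹) by group, h1] at h2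
      exact mul_right_cancel h2
  set w := d * d' with hw
  have hwN : w ∈ N := mul_mem hdN hd'N
  have hwc : w * c * w⁻¹ = c₁ := by
    rw [hw, show d * d' * c * (d * d')⁻¹ = d * (d' * c * d'⁻¹) * d⁻¹ by group, hd'c, hdc₂]
  set g₁ := w⁻¹ * g with hg₁
  have hg₁N : g₁ ∈ N := mul_mem (inv_mem hwN) hgNV
  have hg₁c : g₁ * c * g₁⁻¹ = c := by
    rw [hg₁, show w⁻¹ * g * c * (w⁻¹ * g)⁻¹ = w⁻¹ * c₁ * w by rw [hc₁]; group, ← hwc]; group
  -- the commutators of `d` and `d'` with `CV`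
  have hK : ∀ q ∈ CV, d * q * d⁻¹ * q⁻¹ ∈ W' := by
    intro q hq
    have hmemCV : d * q * d⁻¹ * q⁻¹ ∈ CV := mul_mem (hNCV d hdN q hq) (inv_mem hq)
    obtain ⟨o, ho, m, hmM, hmD, rfl⟩ := s.pos.decomp (hCVM hq)
    set δ := m * d * m⁻¹ with hδ
    have hδD : δ ∈ D := (mem_normalizer_iff.1 hmD d).1 (pow_mem s.rot.mem _)
    have hdD : d ∈ D := pow_mem s.rot.mem _
    have e : d * (o * m) * d⁻¹ * (o * m)⁻¹ = (d * δ⁻¹) * (δ * o * δ⁻¹ * o⁻¹) := by rw [hδ]; group
    rw [e] at hmemCV ⊢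
    set δ' := d * δ⁻¹
    set o' := δ * o * δ⁻¹ * o⁻¹
    have ho' : o' ∈ coreIn MC := mul_mem (coreIn_conj (s.pos.leM hδD) ho) (inv_mem ho)
    have hδ'D : δ' ∈ D := mul_mem hdD (inv_mem hδD)
    have h1 : o' * c₁ * o'⁻¹ = δ'⁻¹ * c₁ * δ' := by
      have h2 := mem_centralizer_iff.1 hmemCV c₁ (Or.inr rfl)
      calc o' * c₁ * o'⁻¹ = δ'⁻¹ * ((δ' * o') * c₁) * o'⁻¹ := by group
        _ = δ'⁻¹ * (c₁ * (δ' * o')) * o'⁻¹ := by rw [h2]
        _ = δ'⁻¹ * c₁ * δ' := by group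
    have h3 : o' * c₁ * o'⁻¹ * c₁⁻¹ = 1 := eq_one_of_coreIn (P := P)
      (by rw [h1]; exact s.closed.1 (mul_mem (mul_mem (mul_mem (inv_mem hδ'D) hc₁D) hδ'D) (inv_mem hc₁D)))
      (by rw [show o' * c₁ * o'⁻¹ * c₁⁻¹ = o' * (c₁ * o'⁻¹ * c₁⁻¹) by group]
          exact mul_mem ho' (coreIn_conj (s.pos.leM hc₁D) (inv_mem ho')))
    have h4 : Commute δ' c₁ := by
      rw [mul_inv_eq_one, h1] at h3
      calc δ' * c₁ = δ' * (δ'⁻¹ * c₁ * δ') := by rw [h3]
        _ = c₁ * δ' := by group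
    have hδ'V : δ' ∈ closure V := by
      rcases s.rot.eq_of_commute hc₁D hc₁o hne hδ'D h4 with h | h | h | h <;> rw [h]
      exacts [one_mem _, subset_closure (Or.inl rfl), subset_closure (Or.inr rfl),
        mul_mem (subset_closure (Or.inl rfl)) (subset_closure (Or.inr rfl))]
    exact mul_mem (mem_sup_left hδ'V)
      (mem_sup_right (mem_oddGen ((Subgroup.mul_mem_cancel_left _ (hVCV hδ'V)).1 hmemCV) (coreIn_odd ho')))
  have hK' : ∀ q ∈ CV, d' * q * d'⁻¹ * q⁻¹ ∈ W' := by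
    intro q hq
    have h1 : g⁻¹ * q * g ∈ CV := by simpa using hNCV g⁻¹ (inv_mem hgNV) q hq
    have h2 := hNW' g hgNV _ (hK _ h1)
    rwa [show g * (d * (g⁻¹ * q * g) * d⁻¹ * (g⁻¹ * q * g)⁻¹) * g⁻¹ = d' * q * d'⁻¹ * q⁻¹ by
      rw [hd']; group] at h2
  have hmulK : ∀ k₁ ∈ N, ∀ k₂ ∈ N, (∀ q ∈ CV, k₁ * q * k₁⁻¹ * q⁻¹ ∈ W') →
      (∀ q ∈ CV, k₂ * q * k₂⁻¹ * q⁻¹ ∈ W') → ∀ q ∈ CV, k₁ * k₂ * q * (k₁ * k₂)⁻¹ * q⁻¹ ∈ W' := by
    intro k₁ h₁ k₂ h₂ hk₁ hk₂ q hq
    rw [show k₁ * k₂ * q * (k₁ * k₂)⁻¹ * q⁻¹ =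
      k₁ * (k₂ * q * k₂⁻¹ * q⁻¹) * k₁⁻¹ * (k₁ * q * k₁⁻¹ * q⁻¹) by group]
    exact mul_mem (hNW' _ h₁ _ (hk₂ q hq)) (hk₁ q hq)
  have hwK := hmulK d hdN d' hd'N hK hK'
  -- `g = k h` with `h` centralising the four group
  obtain ⟨k, hkN, hkK, h, hh, hgkh⟩ : ∃ k ∈ N, (∀ q ∈ CV, k * q * k⁻¹ * q⁻¹ ∈ W') ∧
      ∃ h ∈ CV, g = k * h := by
    have hmk : ∀ h, h * c * h⁻¹ = c → h * c₁ * h⁻¹ = c₁ → h ∈ CV := fun h h1 h2 => mem_centralizer_iff.2 (by
      rintro v (rfl | rfl)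
      exacts [(mul_inv_eq_iff_eq_mul.1 h1).symm, (mul_inv_eq_iff_eq_mul.1 h2).symm])
    have hf₁ : g₁ * c₁ * g₁⁻¹ ∈ D := hcloV ((mem_normalizer_iff.1 hg₁N c₁).1 (subset_closure (Or.inr rfl)))
    have hf₁c : Commute (g₁ * c₁ * g₁⁻¹) c₁ := by
      have h1 : g₁ * c₁ * g₁⁻¹ ∈ CV := hVCV ((mem_normalizer_iff.1 hg₁N c₁).1 (subset_closure (Or.inr rfl)))
      exact (mem_centralizer_iff.1 h1 c₁ (Or.inr rfl)).symm
    rcases s.rot.eq_of_commute hc₁D hc₁o hne hf₁ hf₁c with h | h | h | h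
    · exact absurd (conj_eq_one_iff.1 h) (involution_ne_one hc₁o)
    · exact absurd ((MulAut.conj g₁).injective (h.trans hg₁c.symm) : c₁ = c) hne
    · exact ⟨w, hwN, hwK, g₁, hmk _ hg₁c h, by rw [hg₁, mul_inv_cancel_left]⟩
    · refine ⟨w * d, mul_mem hwN hdN, hmulK w hwN d hdN hwK hK, d⁻¹ * g₁, hmk _ ?_ ?_, by rw [hg₁]; group⟩
      · rw [show d⁻¹ * g₁ * c * (d⁻¹ * g₁)⁻¹ = d⁻¹ * (g₁ * c * g₁⁻¹) * d by group, hg₁c]
        nth_rw 1 [← hdc]; group
      · rw [show d⁻¹ * g₁ * c₁ * (d⁻¹ * g₁)⁻¹ = d⁻¹ * (g₁ * c₁ * g₁⁻¹) * d by group, h]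
        show d⁻¹ * (c * c₁) * d = c₁
        rw [← hcomm.eq, ← hdc₁]
        group
  have hxP : x ∈ (P : Subgroup G) := hEP hxE
  have hgxP : g * x * g⁻¹ ∈ (P : Subgroup G) := hEP (hgE x hxE)
  refine ⟨?_, fun hxU => ⟨hgxP, ?_⟩⟩
  · have hy : h * x * h⁻¹ ∈ CV := mul_mem (mul_mem hh (hxCV x hxE)) (inv_mem hh)
    obtain ⟨w₂, hw₂, kk, hkk, e2⟩ := s.cen.comm_mem (hCVM hh) hxP
    have hom : k * (h * x * h⁻¹) * k⁻¹ * (h * x * h⁻¹)⁻¹ ∈ W' := hkK _ hy
    have hn : closure V ≤ normalizer (oddGen CV : Set G) := fun v hv =>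
      mem_normalizer_fintype fun u hu => oddGen_conj (fun z hz => mul_mem (mul_mem (hVCV hv) hz)
        (inv_mem (hVCV hv))) hu
    rw [hW', ← SetLike.mem_coe, coe_mul_of_left_le_normalizer_right (closure V) (oddGen CV) hn, Set.mem_mul] at hom
    obtain ⟨v, hv, w₃, hw₃, hvw⟩ := hom
    have e : g * x * g⁻¹ * x⁻¹ = v * (w₃ * w₂) * kk := by
      calc g * x * g⁻¹ * x⁻¹ =
          (k * (h * x * h⁻¹) * k⁻¹ * (h * x * h⁻¹)⁻¹) * (h * x * h⁻¹ * x⁻¹) := by rw [hgkh]; group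
        _ = (v * w₃) * (w₂ * kk) := by rw [hvw, e2]
        _ = v * (w₃ * w₂) * kk := by group
    have hkkP : kk ∈ (P : Subgroup G) := commutator_le.2 (fun a ha b hb =>
      mul_mem (mul_mem (mul_mem ha hb) (inv_mem ha)) (inv_mem hb)) hkk
    have hw₃W : w₃ ∈ WC :=
      ((closure_le _).2 fun u hu => s.cen.odd_mem (hCVM hu.1) hu.2 : oddGen CV ≤ WC) hw₃
    have hP2 : w₃ * w₂ ∈ (P : Subgroup G) := by
      have h1 : w₃ * w₂ = v⁻¹ * (g * x * g⁻¹ * x⁻¹) * kk⁻¹ := by rw [e]; group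
      rw [h1]
      exact mul_mem (mul_mem (inv_mem (s.closed.1 (hcloV hv))) (mul_mem hgxP (inv_mem hxP))) (inv_mem hkkP)
    rw [e]
    exact mul_mem (mul_mem (mem_sup_left (mem_sup_left (hcloV hv))) (mem_sup_right ⟨hP2, mul_mem hw₃W hw₂⟩))
      (mem_sup_left (mem_sup_right hkk))
  · have h1 := oddGen_conj (hNCV g hgNV) (s.mem_oddGen_cen hVD hxU.2 (hxCV x hxE))
    exact ((closure_le _).2 fun u hu => s.cen.odd_mem (hCVM hu.1) hu.2 : oddGen CV ≤ WC) h1

/-- The dihedral case. -/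
theorem eq_sylow (hO : oddCore G = ⊥) (hgen : normalClosure (D : Set G) = ⊤) {g : G}
    (hg : g * half * g⁻¹ ∈ (P : Subgroup G)) (hne : g * half * g⁻¹ ≠ half) : D = (P : Subgroup G) := by
  refine eq_sylow_of_steps P D ((P : Subgroup G) ⊓ WC) hO hgen s.closed inf_le_left
    (fun a ha b hb => (s.cen.commute_of_mem hb.1 hb.2 ha).eq.symm) ?_ ?_
  · refine (eq_bot_iff_forall _).2 fun x hx => ?_
    have hc' : g * half * g⁻¹ ∈ D := s.closed.2 _ s.rot.half_mem g hg
    have hcom := fun d hd => s.cen.commute_of_mem hx.2.1 hx.2.2 (d := d) hd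
    have hxr : x ∈ zpowers r := by
      by_contra hxr
      have h5 := s.rot.inv x hx.1 hxr
      rw [(hcom r s.rot.mem).eq, mul_inv_cancel_right, eq_inv_iff_mul_eq_one] at h5
      exact s.sq_ne h5
    have hc'r : g * half * g⁻¹ ∉ zpowers r := fun h => hne (CfsgLib.Signalizer.unique_involution_in_zpowers h
      s.rot.half_mem_zpowers (((MulAut.conj g).orderOf_eq _).trans s.rot.half_order) s.rot.half_order)
    have h6 := s.rot.conj_zpowers hc' hc'r hxr
    rw [← (hcom _ hc').eq, mul_inv_cancel_right, eq_inv_iff_mul_eq_one] at h6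
    exact (s.rot.eq_half_of_mem hxr h6).resolve_right fun h => s.half_not_mem hg hne (h ▸ hx.2.2)
  · intro E k hEP hEZ hkN x hxE
    have hcE : half ∈ E := hEZ _ (s.closed.1 s.rot.half_mem) fun t ht => s.half_comm ht
    by_cases hk : k * half * k⁻¹ = half
    · have hkM : k ∈ MC := mem_centralizer_singleton_iff.2 (mul_inv_eq_iff_eq_mul.1 hk)
      have hkx : k * x * k⁻¹ ∈ (P : Subgroup G) := hEP ((mem_normalizer_iff.1 hkN x).1 hxE)
      obtain ⟨h1, h2⟩ := s.cen.step hkM (hEP hxE) hkx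
      refine ⟨?_, fun hxU => ⟨hkx, h2 hxU.2⟩⟩
      refine (sup_le ?_ ?_ : _ ≤ D ⊔ _ ⊔ _) h1
      exacts [le_sup_right.trans le_sup_left, le_sup_right]
    · exact s.step_move hEP hcE hkN hk hxE

end DSet

end CfsgLib.TwoFusion.Foote
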