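import Cfsg.Agent.Lib.TwoFusion.Foote.RankOne.Local
import Cfsg.Agent.Lib.TwoFusion.Foote.RankOne.Finish

/-!
Owner: helper24. A strongly closed non-abelian subgroup of order eight with central involution `c` central in
`G`, generating `G` with trivial odd core, is the Sylow 2-subgroup: its centraliser gives, modulo `⟨c⟩`, a
strongly closed subgroup disjoint from the image of `D`.
-/

set_option autoImplicit false
set_option linter.style.haveILetI false

namespace CfsgLib.TwoFusion.Foote

open Subgroup Cfsg

universe u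

variable {G : Type u} [Group G] [Finite G]

omit [Finite G] in
theorem centralizer_conj_mem {D : Subgroup G} {k y : G} (hk : k ∈ normalizer (D : Set G))
    (hy : y ∈ centralizer (D : Set G)) : k * y * k⁻¹ ∈ centralizer (D : Set G) := by
  refine mem_centralizer_iff.2 fun d hd => ?_
  have hd' : k⁻¹ * d * k ∈ D := by simpa using (mem_normalizer_iff.1 (inv_mem hk) d).1 hd
  calc d * (k * y * k⁻¹) = k * ((k⁻¹ * d * k) * y) * k⁻¹ := by group
    _ = k * (y * (k⁻¹ * d * k)) * k⁻¹ := by rw [mem_centralizer_iff.1 hy _ hd']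
    _ = k * y * k⁻¹ * d := by group

/-- The case of order eight with central involution. -/
theorem eq_sylow_of_eight {P : Sylow 2 G} {D : Subgroup G} (hD : IsStronglyClosed D (P : Subgroup G))
    {a c e : G} (hc : orderOf c = 2) (hcc : c ∈ center G) (ha : a ∈ D) (ha2 : a * a = c)
    (he : e ∈ D) (hea : e ∉ zpowers a) (hinv : ∀ x ∈ D, x ∉ zpowers a → x * a * x⁻¹ = a⁻¹)
    (htwo : ∀ x ∈ D, ∀ y ∈ D, x ∉ zpowers a → y ∉ zpowers a → x * y ∈ zpowers a)
    (hPa : ∀ t ∈ (P : Subgroup G), t * a * t⁻¹ ∈ zpowers a)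
    (hO : oddCore G = ⊥) (hgen : normalClosure (D : Set G) = ⊤) : D = (P : Subgroup G) := by
  haveI : Fact (Nat.Prime 2) := ⟨Nat.prime_two⟩
  have hc2 : c * c = 1 := CfsgLib.Signalizer.involution_sq hc
  have hcne : c ≠ 1 := CfsgLib.Signalizer.involution_ne_one hc
  have hca : ∀ g, Commute g c := fun g => mem_center_iff.1 hcc g
  have ha4 : a * a * (a * a) = 1 := by rw [ha2, hc2]
  have hac : a⁻¹ = a * c := inv_eq_of_mul_eq_one_right (by rw [← mul_assoc, ha2, hc2])
  have hcD : c ∈ D := ha2 ▸ mul_mem ha ha
  have hca' : c ∈ zpowers a := ha2 ▸ mul_mem (mem_zpowers a) (mem_zpowers a)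
  have hz : ∀ x ∈ zpowers a, x = 1 ∨ x = a ∨ x = c ∨ x = a * c := by
    intro x hx
    rw [← (isOfFinOrder_of_finite a).mem_powers_iff_mem_zpowers, Submonoid.mem_powers_iff] at hx
    obtain ⟨k, rfl⟩ := hx
    induction k with
    | zero => exact Or.inl (pow_zero a)
    | succ k ih =>
      show a ^ (k + 1) = 1 ∨ _
      rw [pow_succ]
      rcases ih with h | h | h | h <;> rw [h]
      · exact Or.inr (Or.inl (one_mul a))
      · exact Or.inr (Or.inr (Or.inl ha2))
      · exact Or.inr (Or.inr (Or.inr (hca a).eq.symm))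
      · exact Or.inl (by rw [mul_assoc, ← (hca a).eq, ← mul_assoc, ha2, hc2])
  set Z := zpowers c
  have hZc : Z ≤ center G := zpowers_le.2 hcc
  haveI : Z.Normal := ⟨fun k hk g => by rwa [mem_center_iff.1 (hZc hk) g, mul_inv_cancel_right]⟩
  have hZP : Z ≤ (P : Subgroup G) := zpowers_le.2 (hD.1 hcD)
  set π := QuotientGroup.mk' Z with hπ
  have hπs : Function.Surjective π := QuotientGroup.mk'_surjective Z
  have hπc : π c = 1 := (QuotientGroup.eq_one_iff c).2 (mem_zpowers c)
  have hker : ∀ x y : G, π x = π y → y = x ∨ y = x * c := by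
    intro x y hxy
    obtain ⟨k, hk⟩ := mem_zpowers_iff.1 ((QuotientGroup.eq (s := Z)).1 hxy)
    rcases Int.even_or_odd k with ⟨i, rfl⟩ | ⟨i, rfl⟩
    · left
      rw [← two_mul, zpow_mul, zpow_two, hc2, one_zpow] at hk
      exact (inv_mul_eq_one.1 hk.symm).symm
    · right
      rw [zpow_add, zpow_mul, zpow_two, hc2, one_zpow, one_mul, zpow_one] at hk
      rw [hk, mul_inv_cancel_left]
  have hzmem : ∀ x ∈ zpowers a, x * c ∈ zpowers a := fun x hx => mul_mem hx hca'
  set M := normalizer (zpowers a : Set G) with hM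
  have hMmem : ∀ g, g * a * g⁻¹ ∈ zpowers a → g ∈ M := fun g hg => mem_normalizer_fintype fun v hv => by
    obtain ⟨k, rfl⟩ := mem_zpowers_iff.1 hv
    show g * a ^ k * g⁻¹ ∈ zpowers a
    rw [← conj_zpow]
    exact zpow_mem hg k
  have pos : Pos P M D a := ⟨fun t ht => hMmem t (hPa t ht), hD, ha, htwo,
    fun x hx g hg _ => (mem_normalizer_iff.1 hg x).1 hx⟩
  have hYM : centralizer (D : Set G) ≤ M := fun y hy => hMmem y (by
    rw [← mem_centralizer_iff.1 hy a ha, mul_inv_cancel_right]; exact mem_zpowers a)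
  have cen : Pos.Cen P M D a (centralizer (D : Set G)) :=
    { toPos := pos
      yle := hYM
      ycomm := fun y hy d hd => (mem_centralizer_iff.1 hy d hd).symm
      yconj := fun k _ hkD y hy => centralizer_conj_mem hkD hy
      yodd := fun k hkM hkD ho => mem_centralizer_iff.2 fun d hd => (pos.odd_commute hkM hkD ho hd).eq.symm }
  set U := (P : Subgroup G) ⊓ centralizer (D : Set G) with hU
  have hWU : (P : Subgroup G) ⊓ (coreIn M ⊔ centralizer (D : Set G)) ≤ U := fun x hx =>
    ⟨hx.1, mem_centralizer_iff.2 fun d hd => (cen.commute_of_mem hx.1 hx.2 hd).eq.symm⟩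
  have hcU : Z ≤ U := zpowers_le.2 ⟨hD.1 hcD, mem_centralizer_iff.2 fun d _ => mem_center_iff.1 hcc d⟩
  have hlift : ∀ (H : Subgroup G), Z ≤ H → ∀ x, π x ∈ H.map π → x ∈ H := by
    intro H hH x hx
    have h1 : x ∈ (H.map π).comap π := hx
    rwa [comap_map_eq_self (by rwa [hπ, QuotientGroup.ker_mk'])] at h1
  have key : D.map π = (P : Subgroup G).map π := by
    refine Eq.trans ?_ (Sylow.coe_mapSurjective hπs P)
    refine eq_sylow_of_steps (P.mapSurjective hπs) (D.map π) (U.map π)
      (CfsgLib.TwoFusion.DihedralProduct.oddCore_quotient_central Z hZc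
        (IsPGroup.of_card (n := 1) (by rw [Nat.card_zpowers, hc, pow_one])) hO) ?_ (closed_map hD Z) ?_ ?_ ?_ ?_
    · rw [coe_map, ← map_normalClosure _ π hπs, hgen, map_top_of_surjective π hπs]
    · rw [Sylow.coe_mapSurjective]
      exact map_mono inf_le_left
    · rintro _ ⟨x, hx, rfl⟩ _ ⟨y, hy, rfl⟩
      rw [← map_mul, mem_centralizer_iff.1 hy.2 x hx, map_mul]
    · refine (eq_bot_iff_forall _).2 ?_
      rintro _ ⟨⟨d, hd, rfl⟩, hdU⟩
      have hdU' : d ∈ U := hlift U hcU d hdU
      have hda : d ∈ zpowers a := by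
        by_contra hda
        have h := hinv d hd hda
        rw [← mem_centralizer_iff.1 hdU'.2 a ha, mul_inv_cancel_right, hac, left_eq_mul] at h
        exact hcne h
      rcases hz d hda with h | h | h | h <;> rw [h]
      · exact map_one π
      · exfalso
        have h1 := hinv e he hea
        have h2 := mem_centralizer_iff.1 hdU'.2 e he
        rw [h] at h2
        rw [h2, mul_inv_cancel_right, hac, left_eq_mul] at h1
        exact hcne h1
      · exact hπc
      · exfalso
        have h1 := hinv e he hea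
        have h2 := mem_centralizer_iff.1 hdU'.2 e he
        rw [h, ← hac] at h2
        have h3 : e * a = a * e := by
          calc e * a = a * (a⁻¹ * e) * a := by group
            _ = a * (e * a⁻¹) * a := by rw [h2]
            _ = a * e := by group
        rw [h3, mul_inv_cancel_right, hac, left_eq_mul] at h1
        exact hcne h1
    · intro E q hEP hEZ hqN x' hx'
      rw [Sylow.coe_mapSurjective] at hEP
      obtain ⟨g, rfl⟩ := hπs q
      have hEP' : ∀ v, π v ∈ E → v ∈ (P : Subgroup G) := fun v hv => hlift _ hZP v (hEP hv)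
      have haE : π a ∈ E := by
        refine hEZ _ ?_ ?_
        · rw [Sylow.coe_mapSurjective]; exact mem_map_of_mem π (hD.1 ha)
        · intro s hs
          rw [Sylow.coe_mapSurjective] at hs
          obtain ⟨t, ht, rfl⟩ := hs
          refine mul_inv_eq_iff_eq_mul.1 ?_
          rw [← map_mul, ← map_inv, ← map_mul]
          rcases hz _ (hPa t ht) with h | h | h | h
          · exact absurd (conj_eq_one_iff.1 h) (fun h1 => hcne (by rw [← ha2, h1, one_mul]))
          · rw [h]
          · exfalso
            have h1 : a = c := by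
              calc a = t⁻¹ * (t * a * t⁻¹) * t := by group
                _ = c := by rw [h, mul_assoc, ← (hca t).eq, inv_mul_cancel_left]
            refine hcne ?_
            rw [← ha2, h1, hc2]
          · rw [h, map_mul, hπc, mul_one]
      obtain ⟨x, rfl⟩ := hπs x'
      have hxP : x ∈ (P : Subgroup G) := hEP' x hx'
      have hgE : ∀ v, π v ∈ E → π (g * v * g⁻¹) ∈ E := fun v hv => by
        rw [map_mul, map_mul, map_inv]; exact (mem_normalizer_iff.1 hqN _).1 hv
      have hgxP : g * x * g⁻¹ ∈ (P : Subgroup G) := hEP' _ (hgE x hx')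
      have hfinish : g * x * g⁻¹ * x⁻¹ ∈ D ⊔ ⁅(P : Subgroup G), (P : Subgroup G)⁆ ⊔ U →
          (x ∈ U → g * x * g⁻¹ ∈ U) → Good (P.mapSurjective hπs) (D.map π) (U.map π) (π g) (π x) := by
        intro h1 h2
        refine ⟨?_, fun hxU => ?_⟩
        · have h3 := mem_map_of_mem π h1
          rw [Subgroup.map_sup, Subgroup.map_sup, map_commutator] at h3
          rw [Sylow.coe_mapSurjective]
          simpa only [map_mul, map_inv] using h3
        · rw [← map_inv, ← map_mul, ← map_mul]
          exact mem_map_of_mem π (h2 (hlift U hcU x hxU))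
      by_cases hfix : π (g * a * g⁻¹) = π a
      · have hgM : g ∈ M := hMmem g (by
          rcases hker _ _ hfix.symm with h | h <;> rw [h]
          exacts [mem_zpowers a, hzmem a (mem_zpowers a)])
        obtain ⟨h1, h2⟩ := cen.step hgM hxP hgxP
        refine hfinish ((sup_le (le_sup_right.trans le_sup_left) (hWU.trans le_sup_right) :
          _ ≤ D ⊔ _ ⊔ U) h1) fun hxU => hWU ⟨hgxP, h2 (mem_sup_right hxU.2)⟩
      · set a' := g * a * g⁻¹ with ha'
        have ha'E : π a' ∈ E := hgE a haE
        have ha'D : a' ∈ D := hD.2 a ha g (hEP' _ ha'E)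
        have ha'n : a' ∉ zpowers a := by
          intro h
          rcases hz _ h with h1 | h1 | h1 | h1
          · exact hcne (by rw [← ha2, conj_eq_one_iff.1 h1, one_mul])
          · exact hfix (by rw [h1])
          · refine hcne ?_
            have h3 : a = c := by
              calc a = g⁻¹ * a' * g := by rw [ha']; group
                _ = c := by rw [h1, mul_assoc, ← (hca g).eq, inv_mul_cancel_left]
            rw [← ha2, h3, hc2]
          · exact hfix (by rw [h1, map_mul, hπc, mul_one])
        have hgD : g ∈ normalizer (D : Set G) := by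
          refine mem_normalizer_fintype fun d hd => ?_
          show g * d * g⁻¹ ∈ D
          have ha'' : g * a' * g⁻¹ ∈ D := hD.2 a' ha'D g (hEP' _ (hgE a' ha'E))
          have hpow : ∀ v ∈ zpowers a, g * v * g⁻¹ ∈ D := by
            intro v hv
            obtain ⟨k, rfl⟩ := mem_zpowers_iff.1 hv
            rw [← conj_zpow]
            exact zpow_mem ha'D k
          by_cases hda : d ∈ zpowers a
          · exact hpow d hda
          · have h1 := mul_mem (hpow _ (htwo d hd a' ha'D hda ha'n)) (inv_mem ha'')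
            rwa [show g * (d * a') * g⁻¹ * (g * a' * g⁻¹)⁻¹ = g * d * g⁻¹ by group] at h1
        -- `x ∈ D C(D)`
        have hxa : x * a * x⁻¹ = a ∨ x * a * x⁻¹ = a * c := by
          rcases hz _ (hPa x hxP) with h | h | h | h
          · exact absurd (conj_eq_one_iff.1 h) (fun h1 => hcne (by rw [← ha2, h1, one_mul]))
          · exact Or.inl h
          · exfalso
            refine hcne ?_
            have h3 : a = c := by
              calc a = x⁻¹ * (x * a * x⁻¹) * x := by group
                _ = c := by rw [h, mul_assoc, ← (hca x).eq, inv_mul_cancel_left]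
            rw [← ha2, h3, hc2]
          · exact Or.inr h
        have hxa' : x * a' * x⁻¹ = a' ∨ x * a' * x⁻¹ = a' * c := by
          have hy : π (g⁻¹ * x * g) ∈ E := by
            rw [map_mul, map_mul, map_inv]
            simpa using (mem_normalizer_iff.1 (inv_mem hqN) _).1 hx'
          have e1 : x * a' * x⁻¹ = g * ((g⁻¹ * x * g) * a * (g⁻¹ * x * g)⁻¹) * g⁻¹ := by rw [ha']; group
          rcases hz _ (hPa _ (hEP' _ hy)) with h | h | h | h
          · exact absurd (conj_eq_one_iff.1 h) (fun h1 => hcne (by rw [← ha2, h1, one_mul]))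
          · left; rw [e1, h]
          · exfalso
            refine hcne ?_
            have h3 : a = c := by
              calc a = (g⁻¹ * x * g)⁻¹ * ((g⁻¹ * x * g) * a * (g⁻¹ * x * g)⁻¹) * (g⁻¹ * x * g) := by group
                _ = c := by rw [h, mul_assoc, ← (hca _).eq, inv_mul_cancel_left]
            rw [← ha2, h3, hc2]
          · right
            calc x * a' * x⁻¹ = g * (a * c) * g⁻¹ := by rw [e1, h]
              _ = g * a * (c * g⁻¹) := by group
              _ = a' * c := by rw [← (hca g⁻¹).eq, ha']; group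
        have hsa : a * a' * a⁻¹ = a' * c := by
          have h1 := hinv a' ha'D ha'n
          calc a * a' * a⁻¹ = a * (a' * a⁻¹ * a'⁻¹) * a' := by group
            _ = a * (a' * a * a'⁻¹)⁻¹ * a' := by group
            _ = a * a * a' := by rw [h1, inv_inv]
            _ = a' * c := by rw [ha2, (hca a').eq]
        have hsa' : a' * a * a'⁻¹ = a * c := by rw [hinv a' ha'D ha'n, hac]
        obtain ⟨s, hs, hsa1, hsa2⟩ : ∃ s ∈ D, x * a * x⁻¹ = s * a * s⁻¹ ∧ x * a' * x⁻¹ = s * a' * s⁻¹ := by
          rcases hxa with h | h <;> rcases hxa' with h' | h'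
          · exact ⟨1, one_mem _, by rw [h]; group, by rw [h']; group⟩
          · exact ⟨a, ha, by rw [h]; group, by rw [h', hsa]⟩
          · exact ⟨a', ha'D, by rw [h, hsa'], by rw [h']; group⟩
          · refine ⟨a * a', mul_mem ha ha'D, ?_, ?_⟩
            · rw [h, show a * a' * a * (a * a')⁻¹ = a * (a' * a * a'⁻¹) * a⁻¹ by group, hsa',
                show a * (a * c) * a⁻¹ = a * a * (c * a⁻¹) by group, ← (hca a⁻¹).eq]
              group
            · rw [h', show a * a' * a' * (a * a')⁻¹ = a * a' * a⁻¹ by group, hsa]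
        set u := s⁻¹ * x with hu
        have hu1 : Commute u a := by
          refine mul_inv_eq_iff_eq_mul.1 ?_
          rw [hu, show s⁻¹ * x * a * (s⁻¹ * x)⁻¹ = s⁻¹ * (x * a * x⁻¹) * s by group, hsa1]; group
        have hu2 : Commute u a' := by
          refine mul_inv_eq_iff_eq_mul.1 ?_
          rw [hu, show s⁻¹ * x * a' * (s⁻¹ * x)⁻¹ = s⁻¹ * (x * a' * x⁻¹) * s by group, hsa2]; group
        have huC : u ∈ centralizer (D : Set G) := mem_centralizer_iff.2 fun d hd => by
          by_cases hda : d ∈ zpowers a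
          · obtain ⟨k, rfl⟩ := mem_zpowers_iff.1 hda
            exact (hu1.zpow_right k).eq.symm
          · obtain ⟨k, hk⟩ := mem_zpowers_iff.1 (htwo d hd a' ha'D hda ha'n)
            have hd' : d = a ^ k * a'⁻¹ := by rw [hk, mul_inv_cancel_right]
            rw [hd']
            exact (Commute.mul_right (hu1.zpow_right k) (Commute.inv_right hu2)).eq.symm
        have hsP : g * s * g⁻¹ ∈ D := (mem_normalizer_iff.1 hgD s).1 hs
        refine hfinish ?_ fun hxU => ⟨hgxP, centralizer_conj_mem hgD hxU.2⟩
        have huU : u ∈ U := ⟨(mul_mem (inv_mem (hD.1 hs)) hxP : u ∈ (P : Subgroup G)), huC⟩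
        have hguU : g * u * g⁻¹ ∈ U := by
          refine ⟨?_, centralizer_conj_mem hgD huC⟩
          have h1 := mul_mem (inv_mem (hD.1 hsP)) hgxP
          rwa [show (g * s * g⁻¹)⁻¹ * (g * x * g⁻¹) = g * u * g⁻¹ by rw [hu]; group] at h1
        rw [show g * x * g⁻¹ * x⁻¹ = g * s * g⁻¹ * (g * u * g⁻¹ * u⁻¹) * s⁻¹ by rw [hu]; group]
        exact mul_mem (mul_mem (mem_sup_left (mem_sup_left hsP)) (mem_sup_right (mul_mem hguU (inv_mem huU))))
          (mem_sup_left (mem_sup_left (inv_mem hs)))
  refine le_antisymm hD.1 fun x hx => hlift D (zpowers_le.2 hcD) x ?_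
  rw [key]
  exact mem_map_of_mem π hx

end CfsgLib.TwoFusion.Foote
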