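import Cfsg.Agent.Lib.TwoFusion.Foote.RankOne.Basic

/-!
Owner: helper24. The structure of a subgroup `M` containing the Sylow 2-subgroup in which the strongly closed
subgroup `D` has a strongly closed cyclic subgroup `⟨a⟩` of index at most two: `M = P W` with `W` the product
of the odd core of `M` and a subgroup centralising `D`.
-/

set_option autoImplicit false
set_option linter.style.haveILetI false

namespace CfsgLib.TwoFusion.Foote

open Subgroup Cfsg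

universe u

variable {G : Type u} [Group G] [Finite G]

/-- The odd core of `M` as a subgroup of `G`. -/
def coreIn (M : Subgroup G) : Subgroup G := (oddCore ↥M).map M.subtype

omit [Finite G] in
theorem coreIn_le (M : Subgroup G) : coreIn M ≤ M := map_subtype_le _

omit [Finite G] in
theorem coreIn_conj {M : Subgroup G} {m o : G} (hm : m ∈ M) (ho : o ∈ coreIn M) :
    m * o * m⁻¹ ∈ coreIn M := by
  obtain ⟨o', ho', rfl⟩ := ho
  exact ⟨⟨m, hm⟩ * o' * ⟨m, hm⟩⁻¹, (CfsgLib.Core.normal_pPrimeCore 2 ↥M).conj_mem _ ho' _, rfl⟩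

theorem coreIn_odd {M : Subgroup G} {o : G} (ho : o ∈ coreIn M) : Odd (orderOf o) := by
  obtain ⟨o', ho', rfl⟩ := ho
  rw [coe_subtype, Subgroup.orderOf_coe]
  exact Odd.of_dvd_nat (CfsgLib.ZStar.odd_card_oddCore ↥M) (Subgroup.orderOf_dvd_natCard _ ho')

omit [Finite G] in
theorem eq_one_of_odd {P : Sylow 2 G} {x : G} (hx : x ∈ (P : Subgroup G)) (ho : Odd (orderOf x)) : x = 1 := by
  haveI : Fact (Nat.Prime 2) := ⟨Nat.prime_two⟩
  obtain ⟨j, hj⟩ := P.2 ⟨x, hx⟩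
  exact orderOf_eq_one_iff.1 (Nat.eq_one_of_dvd_coprimes ((Nat.coprime_two_right.2 ho).pow_right j)
    dvd_rfl (orderOf_dvd_of_pow_eq_one (congrArg Subtype.val hj)))

theorem eq_one_of_coreIn {P : Sylow 2 G} {M : Subgroup G} {x : G} (hx : x ∈ (P : Subgroup G))
    (ho : x ∈ coreIn M) : x = 1 := eq_one_of_odd hx (coreIn_odd ho)

/-- The data: `⟨a⟩` is strongly closed in `M`, `D` is strongly closed in `G`. -/
structure Pos (P : Sylow 2 G) (M D : Subgroup G) (a : G) : Prop where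
  le : (P : Subgroup G) ≤ M
  closed : IsStronglyClosed D (P : Subgroup G)
  mem : a ∈ D
  two : ∀ x ∈ D, ∀ y ∈ D, x ∉ zpowers a → y ∉ zpowers a → x * y ∈ zpowers a
  rot : ∀ x ∈ zpowers a, ∀ g ∈ M, g * x * g⁻¹ ∈ (P : Subgroup G) → g * x * g⁻¹ ∈ zpowers a

namespace Pos

variable {P : Sylow 2 G} {M D : Subgroup G} {a : G} (h : Pos P M D a)

include h

omit [Finite G] in
theorem leM : D ≤ M := h.closed.1.trans h.le

omit [Finite G] in
theorem two_pow {x : G} (hx : x ∈ D) : ∃ j, x ^ 2 ^ j = 1 := by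
  obtain ⟨j, hj⟩ := P.2 ⟨x, h.closed.1 hx⟩
  exact ⟨j, congrArg Subtype.val hj⟩

/-- Frattini: `M = O(M) N_M(D)`. -/
theorem decomp {m : G} (hm : m ∈ M) :
    ∃ o ∈ coreIn M, ∃ n, n ∈ M ∧ n ∈ normalizer (D : Set G) ∧ m = o * n := by
  haveI : Fact (Nat.Prime 2) := ⟨Nat.prime_two⟩
  set P' : Sylow 2 M := P.subtype h.le
  set A' : Subgroup M := (zpowers a).subgroupOf M with hA'
  set D' : Subgroup M := D.subgroupOf M with hD'
  have haM : zpowers a ≤ M := zpowers_le.2 (h.leM h.mem)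
  have hcP : ∀ x : M, x ∈ (P' : Subgroup M) ↔ (x : G) ∈ (P : Subgroup G) := fun x => Iff.rfl
  have hAc : IsStronglyClosed A' (P' : Subgroup M) :=
    ⟨fun x hx => (hcP x).2 (h.closed.1 (zpowers_le.2 h.mem hx)), fun x hx g hg => h.rot x hx g g.2 hg⟩
  have hDc : IsStronglyClosed D' (P' : Subgroup M) :=
    ⟨fun x hx => (hcP x).2 (h.closed.1 hx), fun x hx g hg => h.closed.2 x hx g hg⟩
  haveI : IsCyclic A' := isCyclic_of_surjective (subgroupOfEquivOfLe haM).symm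
    (subgroupOfEquivOfLe haM).symm.surjective
  set O := oddCore ↥M
  haveI hOn : O.Normal := CfsgLib.Core.normal_pPrimeCore 2 ↥M
  set π := QuotientGroup.mk' O
  haveI : IsCyclic (A'.map π) := isCyclic_of_surjective (π.subgroupMap A') (π.subgroupMap_surjective A')
  have hn : (D'.map π).Normal := normal_of_closed (Nat.card (↥M ⧸ O) + 1) (↥M ⧸ O) (Nat.lt_succ_self _)
    (CfsgLib.Core.pPrimeCore_quotient_pPrimeCore 2 ↥M) _ _ _ (closed_map hAc O) (closed_map hDc O)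
    (map_mono fun x hx => zpowers_le.2 h.mem hx) inferInstance (by
      rintro _ ⟨x, hx, rfl⟩ _ ⟨y, hy, rfl⟩ hxA hyA
      rw [← map_mul]
      exact mem_map_of_mem _ (h.two x hx y hy (fun hh => hxA (mem_map_of_mem _ hh))
        fun hh => hyA (mem_map_of_mem _ hh)))
  set K := D' ⊔ O with hK
  haveI hKn : K.Normal := by
    have h1 := hn.comap π
    rwa [comap_map_eq, QuotientGroup.ker_mk'] at h1
  have hDK : D' ≤ K := le_sup_left
  have hidx : ¬ 2 ∣ (D'.subgroupOf K).index := by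
    intro hd
    have h1 : (D'.subgroupOf K).index ∣ Nat.card O := by
      rw [← relIndex]
      exact CfsgLib.ZStar.relIndex_sup_dvd_card D' O
    exact Nat.not_even_iff_odd.2 (CfsgLib.ZStar.odd_card_oddCore ↥M) (even_iff_two_dvd.2 (hd.trans h1))
  set DS : Sylow 2 K := ((P'.isPGroup'.to_le hDc.1).comap_of_injective K.subtype
    K.subtype_injective).toSylow hidx
  have hfr := Sylow.normalizer_sup_eq_top DS
  have hmap : ((DS : Subgroup K).map K.subtype) = D' := by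
    show (D'.subgroupOf K).map K.subtype = D'
    rw [subgroupOf_map_subtype, inf_eq_left.2 hDK]
  rw [hmap] at hfr
  have htop : O ⊔ normalizer (D' : Set M) = ⊤ := by
    rw [eq_top_iff, ← hfr]
    exact sup_le le_sup_right (sup_le (le_normalizer.trans le_sup_right) le_sup_left)
  obtain ⟨o, ho, n, hn', hon⟩ := mem_sup_of_normal_left.1
    (show (⟨m, hm⟩ : M) ∈ O ⊔ normalizer (D' : Set M) from htop ▸ mem_top _)
  refine ⟨(o : G), ⟨o, ho, rfl⟩, (n : G), n.2, ?_, by rw [← coe_mul, hon]⟩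
  refine mem_normalizer_fintype fun d hd => ?_
  exact (mem_normalizer_iff.1 hn' ⟨d, h.leM hd⟩).1 hd

/-- Odd-order elements of `N_M(D)` centralise `D`. -/
theorem odd_commute {n : G} (hnM : n ∈ M) (hnD : n ∈ normalizer (D : Set G)) (ho : Odd (orderOf n))
    {d : G} (hd : d ∈ D) : Commute n d := by
  have hna : ∀ x ∈ zpowers a, Commute n x := commute_of_odd ho (h.two_pow h.mem) fun x hx =>
    h.rot x hx n hnM (h.closed.1 ((mem_normalizer_iff.1 hnD x).1 (zpowers_le.2 h.mem hx)))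
  by_cases hda : d ∈ zpowers a
  · exact hna d hda
  set d' := n * d * n⁻¹ with hd'
  have hd'D : d' ∈ D := (mem_normalizer_iff.1 hnD d).1 hd
  have hd'a : d' ∉ zpowers a := by
    intro hh
    refine hda ?_
    have h1 : n⁻¹ * d' * n = d := by rw [hd']; group
    have h2 : n⁻¹ * d' * n = d' := by rw [mul_assoc, ← (hna d' hh).eq, inv_mul_cancel_left]
    rwa [← h1, h2]
  have he : d⁻¹ * d' ∈ zpowers a := by
    refine h.two _ (inv_mem hd) _ hd'D (fun hh => hda ?_) hd'a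
    simpa using inv_mem hh
  have h1 := eq_one_of_conj_eq ho (hna _ he) (show n * d * n⁻¹ = d * (d⁻¹ * d') by rw [mul_inv_cancel_left])
    (h.two_pow (zpowers_le.2 h.mem he))
  refine mul_inv_eq_iff_eq_mul.1 ?_
  rw [← hd']
  exact (inv_mul_eq_one.1 h1).symm

/-- `Y` is a subgroup of `M` centralising `D`, normalised by `N_M(D)` and holding its odd elements. -/
structure Cen (P : Sylow 2 G) (M D : Subgroup G) (a : G) (Y : Subgroup G) : Prop extends Pos P M D a where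
  yle : Y ≤ M
  ycomm : ∀ y ∈ Y, ∀ d ∈ D, Commute y d
  yconj : ∀ n ∈ M, n ∈ normalizer (D : Set G) → ∀ y ∈ Y, n * y * n⁻¹ ∈ Y
  yodd : ∀ n ∈ M, n ∈ normalizer (D : Set G) → Odd (orderOf n) → n ∈ Y

end Pos

namespace Pos.Cen

variable {P : Sylow 2 G} {M D : Subgroup G} {a : G} {Y : Subgroup G} (h : Pos.Cen P M D a Y)

include h

theorem le_W : coreIn M ⊔ Y ≤ M := sup_le (coreIn_le M) h.yle

theorem exists_mul {w : G} (hw : w ∈ coreIn M ⊔ Y) : ∃ o ∈ coreIn M, ∃ y ∈ Y, w = o * y := by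
  have hn : Y ≤ normalizer (coreIn M : Set G) := fun y hy =>
    mem_normalizer_fintype fun o ho => coreIn_conj (h.yle hy) ho
  rw [sup_comm, ← SetLike.mem_coe, coe_mul_of_left_le_normalizer_right Y (coreIn M) hn, Set.mem_mul] at hw
  obtain ⟨y, hy, o, ho, rfl⟩ := hw
  exact ⟨y * o * y⁻¹, coreIn_conj (h.yle hy) ho, y, hy, by group⟩

theorem conj_mem {m w : G} (hm : m ∈ M) (hw : w ∈ coreIn M ⊔ Y) : m * w * m⁻¹ ∈ coreIn M ⊔ Y := by
  obtain ⟨o₁, ho₁, y, hy, rfl⟩ := h.exists_mul hw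
  obtain ⟨o, ho, n, hnM, hnD, rfl⟩ := h.toPos.decomp hm
  have e : o * n * (o₁ * y) * (o * n)⁻¹ = (o * n) * o₁ * (o * n)⁻¹ * (o * (n * y * n⁻¹) * o⁻¹) := by group
  rw [e]
  exact mul_mem (mem_sup_left (coreIn_conj (mul_mem (coreIn_le M ho) hnM) ho₁))
    (mul_mem (mul_mem (mem_sup_left ho) (mem_sup_right (h.yconj n hnM hnD y hy))) (inv_mem (mem_sup_left ho)))

/-- `M = P W`. -/
theorem exists_sylow_mul {m : G} (hm : m ∈ M) :
    ∃ q ∈ (P : Subgroup G), ∃ w ∈ coreIn M ⊔ Y, m = q * w := by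
  haveI : Fact (Nat.Prime 2) := ⟨Nat.prime_two⟩
  set W := (coreIn M ⊔ Y).subgroupOf M with hW
  haveI hWn : W.Normal := ⟨fun w hw g => h.conj_mem g.2 hw⟩
  set π := QuotientGroup.mk' W
  have hodd : ∀ g : M, Odd (orderOf g) → π g = 1 := by
    intro g hg
    obtain ⟨o, ho, n, hnM, hnD, hgn⟩ := h.toPos.decomp g.2
    -- the odd part of `n` lies in `W` and its image equals that of `g`
    obtain ⟨k, r, hr, hkr⟩ := Nat.exists_eq_pow_mul_and_not_dvd (orderOf_pos n).ne' 2 (by norm_num)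
    have h1 : n ^ 2 ^ k ∈ Y := h.yodd _ (pow_mem hnM _) (pow_mem hnD _) (by
      rw [orderOf_pow, hkr, Nat.gcd_mul_right_left, Nat.mul_div_cancel_left _ (by positivity)]
      exact Nat.not_even_iff_odd.1 fun he => hr (even_iff_two_dvd.1 he))
    have hπ : π g = π ⟨n, hnM⟩ := by
      rw [show g = ⟨o, coreIn_le M ho⟩ * ⟨n, hnM⟩ from Subtype.ext hgn, map_mul,
        show π ⟨o, coreIn_le M ho⟩ = 1 from (QuotientGroup.eq_one_iff _).2 (mem_sup_left ho), one_mul]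
    have h2 : π g ^ 2 ^ k = 1 := by
      rw [hπ, ← map_pow]
      exact (QuotientGroup.eq_one_iff _).2 (mem_sup_right h1)
    have h3 : π g ^ orderOf g = 1 := by rw [← map_pow, pow_orderOf_eq_one, map_one]
    exact orderOf_eq_one_iff.1 (Nat.eq_one_of_dvd_coprimes ((Nat.coprime_two_right.2 hg).pow_right k)
      (orderOf_dvd_of_pow_eq_one h3) (orderOf_dvd_of_pow_eq_one h2))
  have hQ : IsPGroup 2 (↥M ⧸ W) := by
    intro q
    obtain ⟨g, rfl⟩ := QuotientGroup.mk'_surjective W q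
    obtain ⟨k, r, hr, hkr⟩ := Nat.exists_eq_pow_mul_and_not_dvd (orderOf_pos g).ne' 2 (by norm_num)
    refine ⟨k, ?_⟩
    rw [← map_pow]
    exact hodd _ (by
      rw [orderOf_pow, hkr, Nat.gcd_mul_right_left, Nat.mul_div_cancel_left _ (by positivity)]
      exact Nat.not_even_iff_odd.1 fun he => hr (even_iff_two_dvd.1 he))
  have htop : (⊤ : Subgroup (↥M ⧸ W)) = ((P.subtype h.le).mapSurjective (QuotientGroup.mk'_surjective W) :
      Sylow 2 (↥M ⧸ W)) :=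
    CfsgLib.Transfer.eq_sylow_of_le (hQ.to_subgroup ⊤) le_top
  have hmem : π ⟨m, hm⟩ ∈ ((P.subtype h.le : Sylow 2 M) : Subgroup M).map π := by
    rw [← Sylow.coe_mapSurjective (QuotientGroup.mk'_surjective W), ← htop]
    exact mem_top _
  obtain ⟨q, hq, hqm⟩ := hmem
  refine ⟨(q : G), hq, (q : G)⁻¹ * m, ?_, by group⟩
  exact (QuotientGroup.eq (s := W)).1 hqm

theorem odd_mem {m : G} (hm : m ∈ M) (ho : Odd (orderOf m)) : m ∈ coreIn M ⊔ Y := by
  obtain ⟨q, hq, w, hw, hqw⟩ := h.exists_sylow_mul hm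
  haveI : ((coreIn M ⊔ Y).subgroupOf M).Normal := ⟨fun w hw g => h.conj_mem g.2 hw⟩
  set π := QuotientGroup.mk' ((coreIn M ⊔ Y).subgroupOf M)
  have hqM : q ∈ M := h.le hq
  have hwM : w ∈ M := h.le_W hw
  have h1 : π ⟨m, hm⟩ = π ⟨q, hqM⟩ := by
    rw [show (⟨m, hm⟩ : M) = ⟨q, hqM⟩ * ⟨w, hwM⟩ from Subtype.ext hqw, map_mul,
      show π ⟨w, hwM⟩ = 1 from (QuotientGroup.eq_one_iff _).2 hw, mul_one]
  obtain ⟨j, hj⟩ := P.2 ⟨q, hq⟩
  have h2 : π ⟨m, hm⟩ ^ 2 ^ j = 1 := by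
    rw [h1, ← map_pow, show (⟨q, hqM⟩ : M) ^ 2 ^ j = 1 from Subtype.ext (congrArg Subtype.val hj :), map_one]
  have h3 : π ⟨m, hm⟩ ^ orderOf m = 1 := by
    rw [← map_pow, show (⟨m, hm⟩ : M) ^ orderOf m = 1 from Subtype.ext (pow_orderOf_eq_one m), map_one]
  have h4 : π ⟨m, hm⟩ = 1 := orderOf_eq_one_iff.1 (Nat.eq_one_of_dvd_coprimes
    ((Nat.coprime_two_right.2 ho).pow_right j) (orderOf_dvd_of_pow_eq_one h3) (orderOf_dvd_of_pow_eq_one h2))
  exact mem_subgroupOf.1 ((QuotientGroup.eq_one_iff (⟨m, hm⟩ : M)).1 h4)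

/-- The elements of `P ∩ W` centralise `D`. -/
theorem commute_of_mem {x d : G} (hx : x ∈ (P : Subgroup G)) (hxW : x ∈ coreIn M ⊔ Y) (hd : d ∈ D) :
    Commute x d := by
  obtain ⟨o, ho, y, hy, rfl⟩ := h.exists_mul hxW
  have hdP : d ∈ (P : Subgroup G) := h.closed.1 hd
  have e : o * y * d * (o * y)⁻¹ = o * d * o⁻¹ := by
    rw [show o * y * d * (o * y)⁻¹ = o * (y * d * y⁻¹) * o⁻¹ by group, (h.ycomm y hy d hd).eq,
      mul_inv_cancel_right]
  have hP : o * y * d * (o * y)⁻¹ * d⁻¹ ∈ (P : Subgroup G) :=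
    mul_mem (mul_mem (mul_mem hx hdP) (inv_mem hx)) (inv_mem hdP)
  have hO : o * y * d * (o * y)⁻¹ * d⁻¹ ∈ coreIn M := by
    rw [e, show o * d * o⁻¹ * d⁻¹ = o * (d * o⁻¹ * d⁻¹) by group]
    exact mul_mem ho (coreIn_conj (h.toPos.leM hd) (inv_mem ho))
  have := eq_one_of_coreIn hP hO
  rw [mul_inv_eq_one, mul_inv_eq_iff_eq_mul] at this
  exact this

/-- Commutators of `M` with `P` lie in `W [P, P]`. -/
theorem comm_mem {g x : G} (hg : g ∈ M) (hx : x ∈ (P : Subgroup G)) :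
    ∃ w ∈ coreIn M ⊔ Y, ∃ k ∈ ⁅(P : Subgroup G), (P : Subgroup G)⁆, g * x * g⁻¹ * x⁻¹ = w * k := by
  obtain ⟨q, hq, w, hw, rfl⟩ := h.exists_sylow_mul hg
  refine ⟨q * (w * (x * w⁻¹ * x⁻¹)) * q⁻¹, h.conj_mem (h.le hq) (mul_mem hw (h.conj_mem (h.le hx) (inv_mem hw))),
    q * x * q⁻¹ * x⁻¹, ?_, by group⟩
  exact commutator_mem_commutator hq hx

/-- One fusion step inside `M`. -/
theorem step {g x : G} (hg : g ∈ M) (hx : x ∈ (P : Subgroup G)) (hgx : g * x * g⁻¹ ∈ (P : Subgroup G)) :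
    g * x * g⁻¹ * x⁻¹ ∈ ⁅(P : Subgroup G), (P : Subgroup G)⁆ ⊔ ((P : Subgroup G) ⊓ (coreIn M ⊔ Y)) ∧
      (x ∈ coreIn M ⊔ Y → g * x * g⁻¹ ∈ coreIn M ⊔ Y) := by
  obtain ⟨w, hw, k, hk, e⟩ := h.comm_mem hg hx
  refine ⟨?_, fun hxW => h.conj_mem hg hxW⟩
  have hkP : k ∈ (P : Subgroup G) := commutator_le.2 (fun a ha b hb =>
    mul_mem (mul_mem (mul_mem ha hb) (inv_mem ha)) (inv_mem hb)) hk
  have hwP : w ∈ (P : Subgroup G) := by
    have : w = g * x * g⁻¹ * x⁻¹ * k⁻¹ := by rw [e, mul_inv_cancel_right]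
    rw [this]
    exact mul_mem (mul_mem hgx (inv_mem hx)) (inv_mem hkP)
  rw [e]
  exact mul_mem (mem_sup_right ⟨hwP, hw⟩) (mem_sup_left hk)

end Pos.Cen

end CfsgLib.TwoFusion.Foote
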