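import Cfsg.Agent.Lib.TwoFusion.Foote.RankOne.Dihedral
import Cfsg.Agent.Lib.TwoFusion.Foote.RankOne.Lift
import Cfsg.Agent.Lib.Core.UniqueOrderP

/-!
Owner: helper24. A strongly closed subgroup with one involution generating a group with trivial odd core is a
Sylow 2-subgroup (rank one case of S3289).
-/

set_option autoImplicit false
set_option linter.style.haveILetI false

namespace CfsgLib.TwoFusion.Foote

open Subgroup Cfsg
open CfsgLib.Signalizer (involution_sq involution_inv involution_ne_one)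

universe u

variable {G : Type u} [Group G]

/-- A non-abelian 2-subgroup with a cyclic subgroup `⟨r⟩` of order `2 ^ n` whose outside inverts it. -/
structure Rev (D : Subgroup G) (n : ℕ) (r : G) : Prop where
  two_le : 2 ≤ n
  mem : r ∈ D
  order : orderOf r = 2 ^ n
  inv : ∀ d ∈ D, d ∉ zpowers r → d * r * d⁻¹ = r⁻¹
  two : ∀ d ∈ D, d ∉ zpowers r → ∀ e ∈ D, e ∉ zpowers r → d * e ∈ zpowers r
  out : ∃ d ∈ D, d ∉ zpowers r

namespace Rev

variable [Finite G] {D : Subgroup G} {n : ℕ} {r : G} (R : Rev D n r)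

include R

omit [Finite G] in
theorem half_order : orderOf (r ^ 2 ^ (n - 1)) = 2 := by
  rw [orderOf_pow_of_dvd (by positivity) (by rw [R.order]; exact pow_dvd_pow 2 (Nat.sub_le n 1)), R.order]
  have h : n = n - 1 + 1 := by have := R.two_le; omega
  conv_lhs => arg 1; rw [h, pow_succ]
  exact Nat.mul_div_cancel_left 2 (by positivity)

omit [Finite G] in
theorem conj_inv {d a : G} (hd : d ∈ D) (hdr : d ∉ zpowers r) (ha : a ∈ zpowers r) : d * a * d⁻¹ = a⁻¹ := by
  obtain ⟨k, rfl⟩ := mem_zpowers_iff.1 ha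
  rw [← conj_zpow, R.inv d hd hdr, inv_zpow]

theorem eq_half {x : G} (hx : x ∈ zpowers r) (h2 : x * x = 1) : x = 1 ∨ x = r ^ 2 ^ (n - 1) := by
  by_cases h : x = 1
  · exact Or.inl h
  · exact Or.inr (CfsgLib.Signalizer.unique_involution_in_zpowers hx (npow_mem_zpowers r _)
      (orderOf_eq_prime (by rw [pow_two, h2]) h) R.half_order)

omit [Finite G] in
theorem half_central {d : G} (hd : d ∈ D) : Commute d (r ^ 2 ^ (n - 1)) := by
  by_cases hdr : d ∈ zpowers r
  · obtain ⟨k, rfl⟩ := mem_zpowers_iff.1 hdr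
    exact ((Commute.refl r).zpow_left k).pow_right _
  · have h := R.conj_inv hd hdr (npow_mem_zpowers r (2 ^ (n - 1)))
    rw [involution_inv R.half_order] at h
    exact mul_inv_eq_iff_eq_mul.1 h

omit [Finite G] in
theorem sq_ne : r * r ≠ 1 := fun h => by
  have h2 := Nat.le_of_dvd two_pos (R.order ▸ orderOf_dvd_of_pow_eq_one (show r ^ 2 = 1 by rw [pow_two, h]))
  have : 2 ^ 2 ≤ 2 ^ n := Nat.pow_le_pow_right two_pos R.two_le
  omega

/-- The centre of `D`. -/
theorem eq_of_central {x : G} (hx : x ∈ D) (hc : ∀ d ∈ D, Commute x d) : x = 1 ∨ x = r ^ 2 ^ (n - 1) := by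
  have hxr : x ∈ zpowers r := by
    by_contra h
    have h1 := R.inv x hx h
    rw [(hc r R.mem).eq, mul_inv_cancel_right, eq_inv_iff_mul_eq_one] at h1
    exact R.sq_ne h1
  obtain ⟨d, hd, hdr⟩ := R.out
  have h1 := R.conj_inv hd hdr hxr
  rw [← (hc d hd).eq, mul_inv_cancel_right, eq_inv_iff_mul_eq_one] at h1
  exact R.eq_half hxr h1

theorem sq_out {d : G} (hd : d ∈ D) (hdr : d ∉ zpowers r) : d * d = 1 ∨ d * d = r ^ 2 ^ (n - 1) := by
  have h1 := R.two d hd hdr d hd hdr
  refine R.eq_half h1 ?_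
  have h2 := R.conj_inv hd hdr h1
  rw [show d * (d * d) * d⁻¹ = d * d by group, eq_inv_iff_mul_eq_one] at h2
  exact h2

end Rev

/-- The choice of the cyclic subgroup of order four normalised by `P` and the case of order eight. -/
theorem eq_sylow_of_rev_two [Finite G] {P : Sylow 2 G} {D : Subgroup G} {r : G} (R : Rev D 2 r)
    (hD : IsStronglyClosed D (P : Subgroup G)) (hcc : r * r ∈ center G)
    (hO : oddCore G = ⊥) (hgen : normalClosure (D : Set G) = ⊤) : D = (P : Subgroup G) := by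
  haveI : Fact (Nat.Prime 2) := ⟨Nat.prime_two⟩
  have hhalf : r ^ 2 ^ (2 - 1) = r * r := by rw [show 2 ^ (2 - 1) = 2 from rfl, pow_two]
  set c := r * r with hc
  have hc2 : orderOf c = 2 := hhalf ▸ R.half_order
  by_cases hP : ∀ t ∈ (P : Subgroup G), t * r * t⁻¹ ∈ zpowers r
  · obtain ⟨e, he, her⟩ := R.out
    exact eq_sylow_of_eight hD hc2 hcc R.mem rfl he her (fun x hx hxr => R.inv x hx hxr)
      (fun x hx y hy hxr hyr => R.two x hx hxr y hy hyr) hP hO hgen
  push Not at hP
  obtain ⟨t₀, ht₀, hr₁⟩ := hP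
  set r₁ := t₀ * r * t₀⁻¹ with hr₁def
  have hr₁D : r₁ ∈ D := hD.2 r R.mem t₀ (mul_mem (mul_mem ht₀ (hD.1 R.mem)) (inv_mem ht₀))
  have hr₁sq : r₁ * r₁ = c := by
    calc r₁ * r₁ = t₀ * c * t₀⁻¹ := by rw [hr₁def, hc]; group
      _ = c := by rw [mem_center_iff.1 hcc t₀, mul_inv_cancel_right]
  have hcc2 : c * c = 1 := involution_sq hc2
  -- every element outside the centre squares to `c`
  have hsq : ∀ x ∈ D, x ≠ 1 → x ≠ c → x * x = c := by
    intro x hx h1 hxc
    by_cases hxr : x ∈ zpowers r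
    · refine ((R.eq_half (mul_mem hxr hxr) ?_).resolve_left fun h => ?_).trans hhalf
      · obtain ⟨k, rfl⟩ := mem_zpowers_iff.1 hxr
        rw [← zpow_add, ← zpow_add, show k + k + (k + k) = (4 : ℤ) * k by ring, zpow_mul,
          show r ^ (4 : ℤ) = 1 by rw [← pow_orderOf_eq_one r, R.order]; norm_cast, one_zpow]
      · rcases R.eq_half hxr h with h' | h'
        · exact h1 h'
        · exact hxc (h'.trans hhalf)
    · set ρ := x * r₁ with hρ
      have hρr : ρ ∈ zpowers r := R.two x hx hxr r₁ hr₁D hr₁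
      have hx' : x = ρ * r₁⁻¹ := by rw [hρ, mul_inv_cancel_right]
      have h2 : r₁⁻¹ * ρ * r₁ = ρ⁻¹ := by
        have := R.conj_inv (inv_mem hr₁D) (fun h => hr₁ (by simpa using inv_mem h)) hρr
        rwa [inv_inv] at this
      calc x * x = ρ * (r₁⁻¹ * ρ * r₁) * (r₁ * r₁)⁻¹ := by rw [hx']; group
        _ = c := by rw [h2, hr₁sq, mul_inv_cancel, one_mul, involution_inv hc2]
  -- a fixed point of `P` on `D / ⟨c⟩`
  set Z := zpowers c
  have hZc : Z ≤ center G := zpowers_le.2 hcc
  haveI : Z.Normal := ⟨fun k hk g => by rwa [mem_center_iff.1 (hZc hk) g, mul_inv_cancel_right]⟩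
  set π := QuotientGroup.mk' Z
  have hZ2 : ∀ y ∈ Z, y = 1 ∨ y = c := by
    intro y hy
    by_cases h : y = 1
    · exact Or.inl h
    · refine Or.inr (CfsgLib.Signalizer.unique_involution_in_zpowers hy (mem_zpowers c) ?_ hc2)
      refine orderOf_eq_prime ?_ h
      obtain ⟨k, rfl⟩ := mem_zpowers_iff.1 hy
      rw [← zpow_natCast, ← zpow_mul, mul_comm, zpow_mul, zpow_natCast, pow_two, hcc2, one_zpow]
  obtain ⟨z, ⟨a, ha, rfl⟩, hz2, hzP⟩ := CfsgLib.TwoFusion.ProductFusion.exists_center_of_closed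
    (closed_map hD Z) (fun h => by
      have h1 : π r = 1 := (Subgroup.eq_bot_iff_forall _).1 h _ (mem_map_of_mem π R.mem)
      rcases hZ2 r ((QuotientGroup.eq_one_iff r).1 h1) with h2 | h2
      · exact R.sq_ne (by rw [h2, one_mul])
      · exact R.sq_ne (by rw [h2, hcc2]))
  have haZ : a ∉ Z := fun h => involution_ne_one hz2 ((QuotientGroup.eq_one_iff a).2 h)
  have ha2 : a * a = c := hsq a ha (fun h => haZ (h ▸ one_mem _)) fun h => haZ (h ▸ mem_zpowers c)
  have hac : a⁻¹ = a * c := inv_eq_of_mul_eq_one_right (by rw [← mul_assoc, ha2, hcc2])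
  have hca : c ∈ zpowers a := ha2 ▸ mul_mem (mem_zpowers a) (mem_zpowers a)
  have hPa : ∀ t ∈ (P : Subgroup G), t * a * t⁻¹ ∈ zpowers a := by
    intro t ht
    have h1 := hzP (π t) (by rw [Sylow.coe_mapSurjective]; exact mem_map_of_mem π ht)
    have h2 : π (t * a * t⁻¹) = π a := by rw [map_mul, map_mul, map_inv, h1.eq, mul_inv_cancel_right]
    rcases hZ2 _ ((QuotientGroup.eq (s := Z)).1 h2.symm) with h | h
    · rw [show t * a * t⁻¹ = a from (inv_mul_eq_one.1 h).symm]; exact mem_zpowers a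
    · rw [show t * a * t⁻¹ = a * c by rw [← h, mul_inv_cancel_left]]
      exact mul_mem (mem_zpowers a) hca
  -- the centraliser of `a` in `D` is `⟨a⟩`
  have hcent : ∀ x ∈ D, Commute x a → x ∈ zpowers a := by
    intro x hx hxa
    have hcne : c ≠ 1 := involution_ne_one hc2
    by_cases har : a ∈ zpowers r
    · have hxr : x ∈ zpowers r := by
        by_contra hxr
        have h := R.conj_inv hx hxr har
        rw [hxa.eq, mul_inv_cancel_right, eq_inv_iff_mul_eq_one, ha2] at h
        exact hcne h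
      have h4 : orderOf a = 2 ^ (1 + 1) := orderOf_eq_prime_pow
        (by rw [pow_one, pow_two, ha2]; exact hcne)
        (by rw [show 2 ^ (1 + 1) = 2 * 2 from rfl, pow_mul, pow_two, pow_two, ha2, hcc2])
      have heq : zpowers a = zpowers r := eq_of_le_of_card_ge (zpowers_le.2 har)
        (by rw [Nat.card_zpowers, Nat.card_zpowers, h4, R.order])
      rwa [heq]
    · have key : ∀ y ∈ zpowers r, Commute y a → y ∈ zpowers a := by
        intro y hy hya
        have h := R.conj_inv ha har hy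
        rw [← hya.eq, mul_inv_cancel_right, eq_inv_iff_mul_eq_one] at h
        rcases R.eq_half hy h with h' | h'
        · rw [h']; exact one_mem _
        · rw [h', hhalf]; exact hca
      by_cases hxr : x ∈ zpowers r
      · exact key x hxr hxa
      · exact (Subgroup.mul_mem_cancel_right _ (mem_zpowers a)).1
          (key _ (R.two x hx hxr a ha har) (hxa.mul_left (Commute.refl a)))
  have hinv : ∀ x ∈ D, x ∉ zpowers a → x * a * x⁻¹ = a⁻¹ := by
    intro x hx hxa
    obtain ⟨k, hk⟩ := mem_zpowers_iff.1 (hPa x (hD.1 hx))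
    have hsq' : x * a * x⁻¹ * (x * a * x⁻¹) = c := by
      calc x * a * x⁻¹ * (x * a * x⁻¹) = x * (a * a) * x⁻¹ := by group
        _ = c := by rw [ha2, mem_center_iff.1 hcc x, mul_inv_cancel_right]
    rcases Int.even_or_odd k with ⟨i, rfl⟩ | ⟨i, rfl⟩
    · exfalso
      rw [← hk, ← two_mul, zpow_mul, zpow_two, ha2, ← zpow_add, ← two_mul, zpow_mul, zpow_two, hcc2, one_zpow]
        at hsq'
      exact involution_ne_one hc2 hsq'.symm
    · rw [zpow_add, zpow_mul, zpow_two, ha2, zpow_one] at hk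
      rcases Int.even_or_odd i with ⟨j, rfl⟩ | ⟨j, rfl⟩
      · rw [← two_mul, zpow_mul, zpow_two, hcc2, one_zpow, one_mul] at hk
        exact absurd (hcent x hx (mul_inv_eq_iff_eq_mul.1 hk.symm)) hxa
      · rw [zpow_add, zpow_mul, zpow_two, hcc2, one_zpow, one_mul, zpow_one] at hk
        rw [← hk, hac, mem_center_iff.1 hcc a]
  obtain ⟨e, he, hea⟩ : ∃ e ∈ D, e ∉ zpowers a := by
    by_contra h
    push Not at h
    obtain ⟨d, hd, hdr⟩ := R.out
    obtain ⟨i, hi⟩ := mem_zpowers_iff.1 (h d hd)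
    obtain ⟨j, hj⟩ := mem_zpowers_iff.1 (h r R.mem)
    have h1 := R.inv d hd hdr
    rw [← hi, ← hj, ((Commute.refl a).zpow_zpow i j).eq, mul_inv_cancel_right, hj, eq_inv_iff_mul_eq_one] at h1
    exact R.sq_ne h1
  refine eq_sylow_of_eight hD hc2 hcc ha ha2 he hea hinv (fun x hx y hy hxa hya => ?_) hPa hO hgen
  refine hcent _ (mul_mem hx hy) (mul_inv_eq_iff_eq_mul.1 ?_)
  rw [show x * y * a * (x * y)⁻¹ = x * (y * a * y⁻¹) * x⁻¹ by group, hinv y hy hya, ← conj_inv,
    hinv x hx hxa, inv_inv]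

/-- The induction along the quotients by central involutions. -/
theorem eq_sylow_of_rev : ∀ (N : ℕ) (G : Type u) [Group G] [Finite G], Nat.card G < N →
    oddCore G = ⊥ → ∀ (P : Sylow 2 G) (D : Subgroup G) (n : ℕ) (r : G), Rev D n r →
    IsStronglyClosed D (P : Subgroup G) → normalClosure (D : Set G) = ⊤ → D = (P : Subgroup G) := by
  intro N
  induction N with
  | zero => intro G _ _ h; exact absurd h (by omega)
  | succ N ih =>
  intro G _ _ hlt hO P D n r R hD hgen
  haveI : Fact (Nat.Prime 2) := ⟨Nat.prime_two⟩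
  set c := r ^ 2 ^ (n - 1) with hc
  have hcD : c ∈ D := pow_mem R.mem _
  by_cases hiso : ∃ g : G, g * c * g⁻¹ ∈ (P : Subgroup G) ∧ g * c * g⁻¹ ≠ c
  · obtain ⟨g, hg, hne⟩ := hiso
    set c' := g * c * g⁻¹
    have hc'D : c' ∈ D := hD.2 c hcD g hg
    have hc'o : orderOf c' = 2 := ((MulAut.conj g).orderOf_eq c).trans R.half_order
    have hc'r : c' ∉ zpowers r := fun h => hne (CfsgLib.Signalizer.unique_involution_in_zpowers h
      (npow_mem_zpowers r _) hc'o R.half_order)
    have rot : CfsgLib.TwoFusion.DihedralProduct.Rot D n r :=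
      { pos := le_trans one_le_two R.two_le, mem := R.mem, order := R.order, inv := R.inv, two := R.two
        sq := fun d hd hdr => by
          have h1 := R.two d hd hdr c' hc'D hc'r
          have h2 := R.conj_inv hc'D hc'r h1
          have e : d = d * c' * c' := by rw [mul_assoc, involution_sq hc'o, mul_one]
          calc d * d = d * c' * (c' * (d * c') * c'⁻¹) := by
                rw [involution_inv hc'o]
                conv_lhs => rw [e]
                simp only [mul_assoc]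
            _ = 1 := by rw [h2, mul_inv_cancel] }
    exact DSet.eq_sylow ⟨rot, R.two_le, hD⟩ hO hgen hg hne
  push Not at hiso
  have hcc : c ∈ center G := mem_center_iff.2 fun g => by
    have h := CfsgLib.ZStar.mem_oddCore_of_sylow P R.half_order (hD.1 hcD) hiso g
    rw [hO, Subgroup.mem_bot, mul_inv_eq_one, mul_inv_eq_iff_eq_mul] at h
    exact h.symm
  obtain ⟨m, rfl⟩ : ∃ m, n = m + 2 := ⟨n - 2, by have := R.two_le; omega⟩
  rcases m with _ | m
  · exact eq_sylow_of_rev_two R hD (by rwa [hc, show 2 ^ (0 + 2 - 1) = 2 from rfl, pow_two] at hcc) hO hgen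
  set Z := zpowers c
  have hZc : Z ≤ center G := zpowers_le.2 hcc
  haveI : Z.Normal := ⟨fun k hk g => by rwa [mem_center_iff.1 (hZc hk) g, mul_inv_cancel_right]⟩
  set π := QuotientGroup.mk' Z
  have hsur := QuotientGroup.mk'_surjective Z
  have hZr : Z ≤ zpowers r := zpowers_le.2 (npow_mem_zpowers r _)
  have hout : ∀ d, π d ∉ zpowers (π r) → d ∉ zpowers r := fun d hd h => by
    obtain ⟨k, rfl⟩ := mem_zpowers_iff.1 h
    exact hd (mem_zpowers_iff.2 ⟨k, (map_zpow π r k).symm⟩)
  have hcard : Nat.card (G ⧸ Z) < N := by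
    have h2 : 2 * Nat.card (G ⧸ Z) = Nat.card G := by
      rw [card_eq_card_quotient_mul_card_subgroup Z, Nat.card_zpowers, R.half_order, mul_comm]
    have := Nat.card_pos (α := G ⧸ Z)
    omega
  have R' : Rev (D.map π) (m + 2) (π r) := by
    refine ⟨le_add_self, mem_map_of_mem π R.mem, orderOf_eq_prime_pow (n := m + 1) (fun h => ?_) ?_, ?_, ?_, ?_⟩
    · rw [← map_pow] at h
      obtain ⟨k, hk⟩ := mem_zpowers_iff.1 ((QuotientGroup.eq_one_iff _).1 h)
      have hh : r ^ 2 ^ (m + 1) * r ^ 2 ^ (m + 1) = c := by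
        rw [hc, ← pow_add, ← two_mul, ← pow_succ', show m + 1 + 2 - 1 = m + 1 + 1 by omega]
      refine involution_ne_one R.half_order (hh.symm.trans ?_)
      rw [← hk, ← zpow_add, ← two_mul, zpow_mul, zpow_two, involution_sq R.half_order, one_zpow]
    · rw [← map_pow, show m + 1 + 1 = m + 1 + 2 - 1 by omega]
      exact (QuotientGroup.eq_one_iff _).2 (mem_zpowers c)
    · rintro _ ⟨d, hd, rfl⟩ hdr
      rw [← map_inv, ← map_mul, ← map_mul, R.inv d hd (hout d hdr), map_inv]
    · rintro _ ⟨d, hd, rfl⟩ hdr _ ⟨e, he, rfl⟩ her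
      obtain ⟨k, hk⟩ := mem_zpowers_iff.1 (R.two d hd (hout d hdr) e he (hout e her))
      exact mem_zpowers_iff.2 ⟨k, by rw [← map_mul, ← hk, map_zpow]⟩
    · obtain ⟨d, hd, hdr⟩ := R.out
      refine ⟨π d, mem_map_of_mem π hd, fun h => hdr ?_⟩
      obtain ⟨k, hk⟩ := mem_zpowers_iff.1 h
      rw [← map_zpow] at hk
      exact (Subgroup.mul_mem_cancel_left _ (inv_mem (zpow_mem (mem_zpowers r) k))).1
        (hZr ((QuotientGroup.eq (s := Z)).1 hk))
  have h1 := ih (G ⧸ Z) hcard (CfsgLib.TwoFusion.DihedralProduct.oddCore_quotient_central Z hZc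
      (IsPGroup.of_card (n := 1) (by rw [Nat.card_zpowers, R.half_order, pow_one])) hO)
    (P.mapSurjective hsur) (D.map π) _ _ R' (closed_map hD Z)
    (by rw [coe_map, ← map_normalClosure _ π hsur, hgen, map_top_of_surjective π hsur])
  refine le_antisymm hD.1 fun x hx => ?_
  have h2 : π x ∈ D.map π := by rw [h1, Sylow.coe_mapSurjective]; exact mem_map_of_mem π hx
  have h3 : x ∈ (D.map π).comap π := h2
  rwa [comap_map_eq_self (by rw [QuotientGroup.ker_mk']; exact zpowers_le.2 hcD)] at h3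

/-- A strongly closed subgroup with one involution generating a group with trivial odd core is Sylow. -/
theorem eq_sylow_of_unique [Finite G] (P : Sylow 2 G) {S : Subgroup G}
    (hS : IsStronglyClosed S (P : Subgroup G))
    (huniq : ∀ x ∈ S, ∀ y ∈ S, orderOf x = 2 → orderOf y = 2 → x = y)
    (hO : oddCore G = ⊥) (hgen : normalClosure (S : Set G) = ⊤) : S = (P : Subgroup G) := by
  haveI : Fact (Nat.Prime 2) := ⟨Nat.prime_two⟩
  have hcyc : IsCyclic S → S = (P : Subgroup G) := by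
    intro hc
    have hn := normal_of_closed (Nat.card G + 1) G (Nat.lt_succ_self _) hO P S S hS hS le_rfl hc
      (fun x hx _ _ hxS => absurd hx hxS)
    have htop : S = ⊤ := top_le_iff.1 (hgen ▸ normalClosure_le_normal (N := S) (fun x hx => hx))
    exact le_antisymm hS.1 (htop ▸ le_top)
  have hu : ∀ H K : Subgroup S, Nat.card H = 2 → Nat.card K = 2 → H = K := by
    have hkey : ∀ H : Subgroup S, Nat.card H = 2 → ∃ x : S, orderOf x = 2 ∧ H = zpowers x := by
      intro H hH
      obtain ⟨x, hx⟩ := exists_prime_orderOf_dvd_card' (G := H) 2 (hH ▸ dvd_rfl)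
      refine ⟨x, by rw [Subgroup.orderOf_coe, hx], (eq_of_le_of_card_ge (zpowers_le.2 x.2) ?_).symm⟩
      rw [Nat.card_zpowers, Subgroup.orderOf_coe, hx, hH]
    intro H K hH hK
    obtain ⟨x, hx, rfl⟩ := hkey H hH
    obtain ⟨y, hy, rfl⟩ := hkey K hK
    rw [show x = y from Subtype.ext (huniq x x.2 y y.2 (by rwa [Subgroup.orderOf_coe])
      (by rwa [Subgroup.orderOf_coe]))]
  rcases CfsgLib.Core.UniqueOrderP.isCyclic_or_quaternion_of_unique (P.2.to_le hS.1) hu with h | ⟨-, n, ⟨e⟩⟩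
  · exact hcyc h
  rcases n with _ | n
  · haveI : IsCyclic (QuaternionGroup (2 ^ 0)) := QuaternionGroup.quaternionGroup_one_isCyclic
    exact hcyc (isCyclic_of_surjective e.symm e.symm.surjective)
  set m := 2 ^ (n + 1) with hm
  haveI : NeZero m := ⟨by positivity⟩
  set r₀ : S := e.symm (QuaternionGroup.a 1) with hr₀
  have hr : e r₀ = QuaternionGroup.a 1 := e.apply_symm_apply _
  have hmem : ∀ x : S, (x : G) ∈ zpowers (r₀ : G) ↔ ∃ i, e x = QuaternionGroup.a i := by
    intro x
    constructor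
    · intro hx
      rw [← (isOfFinOrder_of_finite (r₀ : G)).mem_powers_iff_mem_zpowers, Submonoid.mem_powers_iff] at hx
      obtain ⟨k, hk⟩ := hx
      refine ⟨k, ?_⟩
      rw [show x = r₀ ^ k from Subtype.ext (by rw [← hk]; rfl), map_pow, hr, QuaternionGroup.a_one_pow]
    · rintro ⟨i, hi⟩
      have : x = r₀ ^ i.val := e.injective (by
        rw [map_pow, hr, QuaternionGroup.a_one_pow, ZMod.natCast_zmod_val, hi])
      rw [this, SubgroupClass.coe_pow]
      exact npow_mem_zpowers _ _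
  have hnot : ∀ x : S, (x : G) ∉ zpowers (r₀ : G) → ∃ i, e x = QuaternionGroup.xa i := fun x hx => by
    rcases hex : e x with i | i
    · exact absurd ((hmem x).2 ⟨i, hex⟩) hx
    · exact ⟨i, rfl⟩
  have R : Rev S (n + 2) (r₀ : G) := by
    refine ⟨le_add_self, r₀.2, ?_, ?_, ?_, ?_⟩
    · rw [Subgroup.orderOf_coe, hr₀, MulEquiv.orderOf_eq, QuaternionGroup.orderOf_a_one, hm, ← pow_succ']
    · intro d hd hdr
      obtain ⟨i, hi⟩ := hnot ⟨d, hd⟩ hdr
      have h1 : (⟨d, hd⟩ : S) * r₀ * (⟨d, hd⟩ : S)⁻¹ = r₀⁻¹ := e.injective (by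
        rw [map_mul, map_mul, map_inv, map_inv, hi, hr]
        rw [QuaternionGroup.xa_mul_a]
        show QuaternionGroup.xa (i + 1) * QuaternionGroup.xa ((m : ZMod (2 * m)) + i) = QuaternionGroup.a (-1)
        rw [QuaternionGroup.xa_mul_xa]
        congr 1
        have h2m : (m : ZMod (2 * m)) + m = 0 := by rw [← Nat.cast_add, ← two_mul, ZMod.natCast_self]
        linear_combination h2m)
      exact congrArg Subtype.val h1
    · intro d hd hdr d' hd' hd'r
      obtain ⟨i, hi⟩ := hnot ⟨d, hd⟩ hdr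
      obtain ⟨j, hj⟩ := hnot ⟨d', hd'⟩ hd'r
      refine (hmem (⟨d, hd⟩ * ⟨d', hd'⟩)).2 ⟨_, by rw [map_mul, hi, hj, QuaternionGroup.xa_mul_xa]⟩
    · refine ⟨_, (e.symm (QuaternionGroup.xa 0)).2, fun h => ?_⟩
      obtain ⟨i, hi⟩ := (hmem _).1 h
      rw [e.apply_symm_apply] at hi
      cases hi
  exact eq_sylow_of_rev (Nat.card G + 1) G (Nat.lt_succ_self _) hO P S _ _ R hS hgen

end CfsgLib.TwoFusion.Foote
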